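import Groth.Agent.InjMod14.Opens
import Groth.Agent.Misc15.KoszulTilde
import Groth.Agent.Coherent.QcohOps
import Groth.Agent.VarietyLib.AffineNhd
import Groth.Agent.DCat.FlatPull

/-!
# The sheaf of a torsion injective module over a local ring
-/

set_option autoImplicit false
set_option backward.isDefEq.respectTransparency false
set_option backward.isDefEq.respectTransparency.types false
set_option maxHeartbeats 1000000

universe u

open CategoryTheory CategoryTheory.Limits AlgebraicGeometry Opposite TopologicalSpace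
open Groth.Agent.Coherent Groth.Agent.PicLib Groth.Agent.Misc15.Koszul

namespace Groth.Agent.InjMod14

variable {R : CommRingCat.{u}} [IsLocalRing R] (E : ModuleCat.{u} R)

local notation "cp" => IsLocalRing.closedPoint R

/-- An open containing the closed point is everything. -/
theorem eq_top_of_closedPoint_mem {U : (Spec R).Opens} (h : (cp : Spec R) ∈ U) : U = ⊤ :=
  eq_top_iff.2 fun y _ => (IsLocalRing.specializes_closedPoint y).mem_open U.2 h

variable {E}

/-- Sections away from the closed point of the sheaf of a torsion module vanish. -/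
theorem section_eq_zero (hE : LocCoh.IsPowerTorsion (IsLocalRing.maximalIdeal R) E)
    {U : (Spec R).Opens} (hU : (cp : Spec R) ∉ U) (s : Γ(tilde E, U)) : s = 0 := by
  refine AmpleLib.sec_ext (tilde E) _ _ fun y hy => ?_
  obtain ⟨_, ⟨t, rfl⟩, hyt, htU⟩ := Opens.isBasis_iff_nbhd.1 (PrimeSpectrum.isBasis_basic_opens (R := R)) hy
  refine ⟨specBasicOpen t, htU, hyt, ?_⟩
  rw [map_zero]
  have ht : t ∈ IsLocalRing.maximalIdeal R := by
    by_contra h
    exact hU (htU h)
  obtain ⟨n, x, hx⟩ := exists_rho_eq E t (resM (tilde E) htU s)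
  obtain ⟨k, hk⟩ := hE x
  rw [rho_eq_zero_of_pow E t le_rfl (hk _ (Ideal.pow_mem_pow ht k))] at hx
  exact ((Scheme.Modules.isSMulRegular_of_le_basicOpen (le_refl (specBasicOpen t))).pow n)
    (hx.symm.trans (smul_zero _).symm)

/-- Stalks away from the closed point vanish. -/
theorem stalk_eq_zero (hE : LocCoh.IsPowerTorsion (IsLocalRing.maximalIdeal R) E) {y : Spec R}
    (hy : y ≠ cp) (v : (tilde E).presheaf.stalk y) : v = 0 := by
  obtain ⟨U, hyU, s, rfl⟩ := (tilde E).presheaf.exists_germ_eq (x := y) v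
  have hc : IsClosed ({(cp : Spec R)} : Set (Spec R)) :=
    (PrimeSpectrum.isClosed_singleton_iff_isMaximal _).2 (IsLocalRing.maximalIdeal.isMaximal R)
  let W : (Spec R).Opens := ⟨(U : Set (Spec R)) ∩ {(cp : Spec R)}ᶜ, U.2.inter hc.isOpen_compl⟩
  have hyW : y ∈ W := ⟨hyU, hy⟩
  refine ((tilde E).presheaf.germ_res_apply (homOfLE (show W ≤ U from fun z hz => hz.1)) y hyW s).symm.trans ?_
  exact (congrArg _ (section_eq_zero hE (U := W) (fun h => h.2 rfl) _)).trans (map_zero _)

/-- The sheaf of a torsion injective module over a local ring is injective. -/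
theorem injective_tilde_of_local (hE : LocCoh.IsPowerTorsion (IsLocalRing.maximalIdeal R) E)
    [Module.Injective R E] : Injective (tilde E) := by
  refine injective_of_extend_restrict Set.univ (Opens.isBasis_iff_nbhd.2 fun {U} {x} hx => ⟨U, trivial, hx, le_rfl⟩)
    _ fun V _ {G} m _ φ => ?_
  by_cases hV : (cp : Spec R) ∈ V
  swap
  · have hzero : ∀ (W : V.toScheme.Opens) (s : Γ((tilde E).restrict V.ι, W)), s = 0 := fun W s =>
      section_eq_zero hE (U := V.ι ''ᵁ W) (fun h => hV (V.ι_image_le W h)) s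
    exact ⟨0, Scheme.Modules.hom_ext _ _ fun W => ConcreteCategory.hom_ext _ _ fun g =>
      (hzero W _).trans (hzero W _).symm⟩
  have hVT : V.ι ''ᵁ (⊤ : V.toScheme.Opens) = specBasicOpen (1 : R) := by
    rw [Scheme.Hom.image_top_eq_opensRange, Scheme.Opens.opensRange_ι, eq_top_of_closedPoint_mem hV]
    exact PrimeSpectrum.basicOpen_one.symm
  -- the ring map and the module map
  let W₀ := V.ι ''ᵁ (⊤ : V.toScheme.Opens)
  let σ : R → Γ(V.toScheme, ⊤) := fun r => (V.ι.appIso ⊤).hom (algebraMap R Γ(Spec R, W₀) r)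
  have hσsmul : ∀ (M : (Spec R).Modules) (r : R) (a : Γ(M.restrict V.ι, ⊤)),
      (show Γ(M, W₀) from σ r • a) = r • (show Γ(M, W₀) from a) := fun M r a => by
    show ((V.ι.appIso ⊤).inv ((V.ι.appIso ⊤).hom (algebraMap R Γ(Spec R, W₀) r))) • (show Γ(M, W₀) from a) = _
    rw [Iso.hom_inv_id_apply]
    exact algebraMap_smul Γ(Spec R, W₀) r _
  have hρ : Function.Bijective (rho E W₀) := by
    show Function.Bijective (rho E (V.ι ''ᵁ (⊤ : V.toScheme.Opens)))
    rw [hVT]
    refine ⟨fun a b hab => ?_, fun s => ?_⟩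
    · obtain ⟨n, hn⟩ := exists_pow_of_rho_eq_zero E 1 (a - b) (by rw [map_sub, hab, sub_self])
      rwa [one_pow, one_smul, sub_eq_zero] at hn
    · obtain ⟨n, x, hx⟩ := exists_rho_eq E 1 s
      exact ⟨x, by rw [hx, one_pow, one_smul]⟩
  let ρe : E ≃ₗ[R] Γ(tilde E, W₀) := LinearEquiv.ofBijective (rho E W₀) hρ
  have hσadd : ∀ r r', σ (r + r') = σ r + σ r' := fun r r' => by simp only [σ, map_add]
  have hσmul : ∀ r r', σ (r * r') = σ r * σ r' := fun r r' => by simp only [σ, map_mul]
  have hσ0 : σ 0 = 0 := by simp only [σ, map_zero]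
  let K : Ideal R :=
    { carrier := {r | ∃ g : Γ(G, ⊤), m.app ⊤ g = σ r}
      zero_mem' := ⟨0, (map_zero _).trans hσ0.symm⟩
      add_mem' := by
        rintro r r' ⟨g, hg⟩ ⟨g', hg'⟩
        exact ⟨g + g', (map_add _ _ _).trans ((congrArg₂ (· + ·) hg hg').trans (hσadd r r').symm)⟩
      smul_mem' := by
        rintro c r ⟨g, hg⟩
        exact ⟨σ c • g, (Scheme.Modules.Hom.app_smul _ _ _).trans ((congrArg (σ c • ·) hg).trans (hσmul c r).symm)⟩ }
  have hinj : Function.Injective (m.app ⊤) := app_injective_of_mono m ⊤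
  choose g hg using fun r : K => r.2
  let ψK : K →ₗ[R] E :=
    { toFun := fun r => ρe.symm (show Γ(tilde E, W₀) from φ.app ⊤ (g r))
      map_add' := fun r r' => by
        rw [show g (r + r') = g r + g r' from hinj (by rw [map_add, hg, hg, hg]; exact hσadd _ _), map_add]
        exact map_add ρe.symm _ _
      map_smul' := fun c r => by
        rw [show g (c • r) = σ c • g r from
          hinj (by rw [Scheme.Modules.Hom.app_smul, hg, hg]; exact hσmul _ _), Scheme.Modules.Hom.app_smul]
        exact (congrArg ρe.symm (hσsmul (tilde E) c _)).trans (map_smul ρe.symm c _) }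
  obtain ⟨ψR, hψR⟩ := Module.Baer.of_injective ‹Module.Injective R E› K ψK
  refine ⟨unitDesc _ (show Γ((tilde E).restrict V.ι, ⊤) from ρe (ψR 1)), ?_⟩
  refine Scheme.Modules.hom_ext _ _ fun W => ConcreteCategory.hom_ext _ _ fun a => ?_
  by_cases hW : (cp : Spec R) ∈ V.ι ''ᵁ W
  swap
  · exact (section_eq_zero hE hW _).trans (section_eq_zero hE hW _).symm
  have hWtop : W = ⊤ := by
    rw [← V.ι.preimage_image_eq W, eq_top_of_closedPoint_mem hW]
    exact Opens.ext (Set.eq_univ_of_forall fun _ => trivial)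
  subst hWtop
  obtain ⟨r, hr⟩ : ∃ r, σ r = m.app ⊤ a := by
    have hbij : Function.Bijective (algebraMap R Γ(Spec R, W₀)) := by
      show Function.Bijective (algebraMap R Γ(Spec R, V.ι ''ᵁ (⊤ : V.toScheme.Opens)))
      rw [Scheme.Hom.image_top_eq_opensRange, Scheme.Opens.opensRange_ι, eq_top_of_closedPoint_mem hV]
      exact ConcreteCategory.bijective_of_isIso (Scheme.ΓSpecIso R).inv
    obtain ⟨r, hr⟩ := hbij.2 ((V.ι.appIso ⊤).inv (m.app ⊤ a))
    exact ⟨r, by simp only [σ, hr, Iso.inv_hom_id_apply]⟩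
  have hrK : r ∈ K := ⟨a, hr.symm⟩
  have hga : g ⟨r, hrK⟩ = a := hinj ((hg ⟨r, hrK⟩).trans hr)
  show (unitDesc _ _).app ⊤ (m.app ⊤ a) = φ.app ⊤ a
  rw [app_unit, unitVal_unitDesc, resM_self, ← hr, ← hga]
  refine (hσsmul (tilde E) r _).trans ?_
  show r • ρe (ψR 1) = _
  rw [← map_smul ρe, ← map_smul ψR, smul_eq_mul, mul_one, hψR r hrK]
  exact ρe.apply_symm_apply _

omit [IsLocalRing R] in
/-- The skyscraper of an injective hull of a residue field. -/
theorem injective_pushforward_fromSpecStalk {X : Scheme.{u}} (x : X) (M : (Spec (X.presheaf.stalk x)).Modules)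
    (hM : Injective M) : Injective ((Scheme.Modules.pushforward (X.fromSpecStalk x)).obj M) := by
  haveI : Flat (X.fromSpecStalk x) := VarietyLib.flat_fromSpecStalk' x
  haveI := DCat.FlatPull.preservesMonomorphisms_pullback (X.fromSpecStalk x)
  exact (Scheme.Modules.pullbackPushforwardAdjunction (X.fromSpecStalk x)).map_injective M hM

end Groth.Agent.InjMod14
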