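import Groth.Agent.InjMod14.Sums
import Groth.Agent.InjMod14.Local
import Groth.Agent.Dual22Lib.Bottom
import Groth.Agent.InjHullLib.Localization
import Groth.Agent.RefHullLib.Restrict
import Groth.Agent.Flatn12.PullbackSections
import Groth.Agent.ModStalk.SkyStalk
import Groth.Agent.S0301
import Groth.Agent.S0307

/-!
# The sheaf of an injective module over a Noetherian ring is injective
-/

set_option autoImplicit false
set_option linter.style.haveILetI false
set_option backward.isDefEq.respectTransparency false
set_option backward.isDefEq.respectTransparency.types false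
set_option maxHeartbeats 1000000

universe u

open CategoryTheory CategoryTheory.Limits AlgebraicGeometry Opposite TopologicalSpace
open Groth.Agent.Coherent Groth.Agent.PicLib Groth.Agent.Misc15.Koszul Groth.Agent.ModStalk

namespace Groth.Agent.InjMod14

variable {R : CommRingCat.{u}}

/-- Transport of injectivity along a semilinear equivalence. -/
theorem injective_of_semilinear {A B : Type u} [CommRing A] [CommRing B] {M N : Type u} [AddCommGroup M]
    [Module A M] [AddCommGroup N] [Module B N] (φ : A ≃+* B) (e : M ≃+ N)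
    (he : ∀ a m, e (a • m) = φ a • e m) [Module.Injective A M] : Module.Injective B N :=
  letI := RingHomInvPair.of_ringEquiv φ
  letI := RingHomInvPair.of_ringEquiv φ.symm
  Module.Injective.of_ringEquiv (M := M) (N := N) φ { e with map_smul' := he }

/-- The stalks of the sheaf of an injective module are injective. -/
theorem injective_tilde_stalk [IsNoetherianRing R] (E : ModuleCat.{u} R) [Module.Injective R E] (p : Spec R) :
    Module.Injective ((Spec R).presheaf.stalk p) ((tilde E).presheaf.stalk p) := by
  obtain ⟨φ, e, he⟩ := Dual22Lib.tilde_stalk_semilinear R p E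
  haveI : Module.Injective (Localization.AtPrime p.asIdeal) (LocalizedModule p.asIdeal.primeCompl E) :=
    Module.injective_of_isLocalizedModule p.asIdeal.primeCompl
      (LocalizedModule.mkLinearMap p.asIdeal.primeCompl E)
  exact injective_of_semilinear φ.symm e.symm fun a m => e.injective (by
    rw [AddEquiv.apply_symm_apply, he, RingEquiv.apply_symm_apply, AddEquiv.apply_symm_apply])

/-- The germ at `p` of a canonical section is the canonical map to the stalk. -/
theorem germ_rho (E : ModuleCat.{u} R) (p : Spec R) {U : (Spec R).Opens} (hp : p ∈ U) (x : E) :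
    (tilde E).presheaf.germ U p hp (rho E U x) = tilde.toStalk E p x := by
  refine Eq.trans ?_ (show (tilde E).presheaf.germ ⊤ p trivial (rho E ⊤ x) = _ from rfl)
  rw [← rho_res E (show U ≤ ⊤ from le_top) x]
  exact (tilde E).presheaf.germ_res_apply (homOfLE le_top) p hp _

section Point

variable (p : Spec R) (E : ModuleCat.{u} R)
  (hunit : ∀ s : R, s ∉ p.asIdeal → Function.Bijective (fun x : E => s • x))
  (hnil : ∀ s : R, s ∈ p.asIdeal → ∀ x : E, ∃ n : ℕ, s ^ n • x = 0)

include hunit in
theorem toStalk_injective_of_point (x : E) (hx : tilde.toStalk E p x = 0) : x = 0 := by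
  obtain ⟨⟨c, hc⟩, h⟩ := IsLocalizedModule.exists_of_eq (S := p.asIdeal.primeCompl) (f := (tilde.toStalk E p).hom)
    (x₁ := x) (x₂ := 0) (hx.trans (map_zero _).symm)
  exact (hunit c hc).1 (h.trans (show (⟨c, hc⟩ : p.asIdeal.primeCompl) • (0 : E) = c • 0 by
    rw [smul_zero, smul_zero]))

include hunit in
theorem toStalk_surjective_of_point (a : (tilde E).presheaf.stalk p) : ∃ x, tilde.toStalk E p x = a := by
  obtain ⟨⟨x, c⟩, h⟩ := IsLocalizedModule.surj p.asIdeal.primeCompl (tilde.toStalk E p).hom a
  obtain ⟨y, hy⟩ := (hunit c.1 c.2).2 x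
  refine ⟨y, ?_⟩
  refine ((Module.End.isUnit_iff _).1 (IsLocalizedModule.map_units (tilde.toStalk E p).hom c)).1 ?_
  show c.1 • _ = c.1 • a
  exact ((map_smul (tilde.toStalk E p).hom c.1 y).symm.trans
    (congrArg (tilde.toStalk E p).hom hy)).trans h.symm

include hunit hnil in
/-- A section killed at `p` vanishes. -/
theorem section_eq_zero_of_point {U : (Spec R).Opens} (s : Γ(tilde E, U))
    (hs : ∀ hp : p ∈ U, (tilde E).presheaf.germ U p hp s = 0) : s = 0 := by
  refine AmpleLib.sec_ext (tilde E) _ _ fun y hy => ?_
  obtain ⟨_, ⟨t, rfl⟩, hyt, htU⟩ := Opens.isBasis_iff_nbhd.1 (PrimeSpectrum.isBasis_basic_opens (R := R)) hy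
  refine ⟨specBasicOpen t, htU, hyt, ?_⟩
  rw [map_zero]
  obtain ⟨n, x, hx⟩ := exists_rho_eq E t (resM (tilde E) htU s)
  have h0 : rho E (specBasicOpen t) x = 0 := by
    by_cases ht : t ∈ p.asIdeal
    · obtain ⟨k, hk⟩ := hnil t ht x
      exact rho_eq_zero_of_pow E t le_rfl hk
    · have hp : p ∈ specBasicOpen t := ht
      have h1 : (tilde E).presheaf.germ (specBasicOpen t) p hp (rho E (specBasicOpen t) x) = 0 := by
        rw [hx, ← resM_smul_spec]
        refine ((tilde E).presheaf.germ_res_apply (homOfLE htU) p hp (t ^ n • s)).trans ?_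
        rw [Scheme.Modules.smul_Spec_def, QCohLoc.germ_smul' (tilde E) (htU hp), hs, smul_zero]
      rw [germ_rho] at h1
      rw [toStalk_injective_of_point p E hunit x h1, map_zero]
  exact ((Scheme.Modules.isSMulRegular_of_le_basicOpen (le_refl (specBasicOpen t))).pow n)
    ((hx.symm.trans h0).trans (smul_zero _).symm)

include hunit hnil in
/-- The sheaf of an injective module supported at one point is an injective skyscraper. -/
theorem injective_tilde_of_point [IsNoetherianRing R] [Module.Injective R E] : Injective (tilde E) := by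
  let A : ModuleCat.{u} ((Spec R).presheaf.stalk p) := (DerSch.stalkFunctor (Spec R) p).obj (tilde E)
  let η : tilde E ⟶ (sky p).obj A := (stalkAdj p).homEquiv _ _ (𝟙 A)
  have hη : ∀ (U : (Spec R).Opens) (hp : p ∈ U) (s : Γ(tilde E, U)),
      sval (A := A) (U := U) (η.app U s) hp = (tilde E).presheaf.germ U p hp s := fun U hp s => by
    show sval (A := A) (U := U) ((((stalkAdj p).homEquiv _ _ (𝟙 A)) : tilde E ⟶ _).app U s) hp = _
    rw [Adjunction.homEquiv_unit]
    rfl
  haveI : IsIso η := by
    refine Scheme.Modules.Hom.isIso_iff_isIso_app.2 fun U => ?_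
    rw [ConcreteCategory.isIso_iff_bijective]
    refine ⟨(injective_iff_map_eq_zero (η.app U).hom).2 fun s hs => ?_, fun a => ?_⟩
    · exact section_eq_zero_of_point p E hunit hnil s fun hp =>
        (hη U hp s).symm.trans (congrArg (fun t => sval (A := A) (U := U) t hp) hs)
    · by_cases hp : p ∈ U
      swap
      · exact ⟨0, sval_ext (A := A) (U := U) fun h => absurd h hp⟩
      obtain ⟨x, hx⟩ := toStalk_surjective_of_point p E hunit (sval (A := A) (U := U) a hp)
      exact ⟨rho E U x, sval_ext (A := A) (U := U) fun h => (hη U h _).trans ((germ_rho E p h x).trans hx)⟩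
  haveI : Injective A := by
    have := injective_tilde_stalk E p
    exact (Module.injective_iff_injective_object ((Spec R).presheaf.stalk p) A).1 this
  exact Injective.of_iso (asIso η).symm ((stalkAdj p).map_injective A inferInstance)

end Point

set_option synthInstance.maxHeartbeats 200000 in
/-- The sheaf of an injective module over a Noetherian ring is injective. -/
theorem injective_tilde [IsNoetherianRing R] (M : ModuleCat.{u} R) [Module.Injective R M] :
    Injective (tilde M) := by
  classical
  obtain ⟨ι, E, hint, hE⟩ := Groth.Agent.S0307.result R M ‹_›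
  let Ec : ι → ModuleCat.{u} R := fun i => ModuleCat.of R (E i)
  haveI : ∀ i, Injective (tilde (Ec i)) := fun i => by
    obtain ⟨hind, hinj⟩ := hE i
    haveI := hinj
    obtain ⟨⟨x₀, y₀, hne⟩⟩ := hind.1
    haveI : Nontrivial (E i) := ⟨⟨x₀, y₀, hne⟩⟩
    obtain ⟨p, hp⟩ := associatedPrimes.nonempty R (E i)
    haveI := hp.isPrime
    obtain ⟨x, hx⟩ := ((isAssociatedPrime_iff_exists_injective_linearMap _ _).1 hp).2
    have hf : InjHull.IsInjectiveHull x := by
      refine ⟨⟨hx, fun N hN => ?_⟩, hinj⟩
      refine InjHullLib.inf_ne_bot_of_indecomposable hind hinj _ _ hN fun h => ?_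
      have : Nontrivial (R ⧸ p) := Ideal.Quotient.nontrivial_iff.2 hp.isPrime.ne_top
      exact one_ne_zero (hx (((Submodule.eq_bot_iff _).1 h _ ⟨1, rfl⟩).trans (map_zero x).symm))
    exact injective_tilde_of_point ⟨p, hp.isPrime⟩ (Ec i)
      (fun s hs => InjHullLib.bijective_smul_of_notMem hf hs)
      (fun s hs => InjHullLib.exists_pow_smul_eq_zero_of_mem hf (fun J => Groth.Agent.S0301.result R (E i) hinj J) hs)
  let e1 : (∐ Ec) ≅ M := ModuleCat.coprodIsoDirectSum Ec ≪≫
    (LinearEquiv.ofBijective (DirectSum.coeLinearMap E) hint).toModuleIso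
  haveI : (tilde.functor R).IsLeftAdjoint := tilde.adjunction.isLeftAdjoint
  haveI : IsNoetherianRing R := ‹_›
  haveI hS : Injective (∐ fun i => (tilde.functor R).obj (Ec i)) := injective_sigma _ fun i => ‹∀ i, Injective (tilde (Ec i))› i
  exact Injective.of_iso ((PreservesCoproduct.iso (tilde.functor R) Ec).symm ≪≫ (tilde.functor R).mapIso e1)
    hS

/-- The stalks of isomorphic modules are injective together. -/
theorem injective_stalk_of_iso {X : Scheme.{u}} {F G : X.Modules} (i : F ≅ G) (x : X)
    [Module.Injective (X.presheaf.stalk x) (F.presheaf.stalk x)] :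
    Module.Injective (X.presheaf.stalk x) (G.presheaf.stalk x) := by
  let e := ((DerSch.stalkFunctor X x).mapIso i).toLinearEquiv
  exact injective_of_semilinear (RingEquiv.refl (X.presheaf.stalk x))
    (show F.presheaf.stalk x ≃+ G.presheaf.stalk x from e.toAddEquiv) fun a m => e.map_smul a m

/-- A quasi-coherent module on a locally Noetherian scheme with injective stalks is injective. -/
theorem injective_of_qcoh_stalks {X : Scheme.{u}} [IsLocallyNoetherian X] (F : X.Modules) (hF : Coh.IsQCoh F)
    (h : ∀ x : X, Module.Injective (X.presheaf.stalk x) (F.presheaf.stalk x)) : Injective F := by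
  refine injective_of_locally F fun x => ?_
  obtain ⟨U, hU, hxU, -⟩ := Opens.isBasis_iff_nbhd.mp X.isBasis_affineOpens (Opens.mem_top x)
  refine ⟨U, hxU, ?_⟩
  haveI := hF
  haveI hG := Flatn12.isQCoh_restrict_fromSpec' F hU
  haveI : IsNoetherianRing Γ(X, U) := IsLocallyNoetherian.component_noetherian ⟨U, hU⟩
  let M : ModuleCat.{u} Γ(X, U) := moduleSpecΓFunctor.obj (F.restrict hU.fromSpec)
  let i : tilde M ≅ F.restrict hU.fromSpec := asIso (F.restrict hU.fromSpec).fromTildeΓ
  haveI : Module.Injective Γ(X, U) M := by
    refine Module.injective_of_localization_maximal fun I hI => ?_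
    let y : PrimeSpectrum Γ(X, U) := ⟨I, hI.isPrime⟩
    obtain ⟨φ, e, he, -, -⟩ := RefHullLib.exists_semilinear_restrict hU.fromSpec F y
    haveI := h (hU.fromSpec y)
    haveI := injective_of_semilinear φ e he
    haveI := injective_stalk_of_iso i.symm (y : Spec Γ(X, U))
    obtain ⟨ψ, e', he'⟩ := Dual22Lib.tilde_stalk_semilinear Γ(X, U) y M
    exact injective_of_semilinear ψ e' he'
  haveI hF' : Injective (F.restrict hU.fromSpec) := Injective.of_iso i (injective_tilde M)
  have key : ∀ (k : Scheme.Opens.toScheme U ⟶ X) (_ : IsOpenImmersion k), k = hU.isoSpec.hom ≫ hU.fromSpec →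
      Injective ((Scheme.Modules.restrictFunctor k).obj F) := by
    rintro k _ rfl
    exact Injective.of_iso ((Scheme.Modules.restrictFunctorComp hU.isoSpec.hom hU.fromSpec).app F).symm
      (Coherent.injective_restrict hU.isoSpec.hom (F.restrict hU.fromSpec))
  exact key (Scheme.Opens.ι U) inferInstance hU.isoSpec_hom_fromSpec.symm

end Groth.Agent.InjMod14
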