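import Groth.Agent.InjMod14.Baer
import Groth.Agent.DCat.JShriek
import Groth.Agent.DCat.ModulesGrothendieck
import Groth.Agent.Coherent.InjRestrict
import Groth.Agent.Coherent.FiniteType
import Groth.Agent.Coherent.Devissage

/-!
# Baer's criterion for modules on a scheme, by extensions by zero from opens
-/

set_option autoImplicit false
set_option backward.isDefEq.respectTransparency false
set_option maxHeartbeats 800000

universe u

open CategoryTheory CategoryTheory.Limits AlgebraicGeometry Opposite TopologicalSpace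
open Groth.Agent.Coherent Groth.Agent.PicLib Groth.Agent.AmpleLib

namespace Groth.Agent.InjMod14

variable {X : Scheme.{u}}

local notation "St" => DerSch.stalkFunctor X

theorem hom_ext_stalks {M N : X.Modules} {f g : M ⟶ N}
    (h : ∀ x : X, (St x).map f = (St x).map g) : f = g := by
  refine Scheme.Modules.hom_ext _ _ fun U => ConcreteCategory.hom_ext _ _ fun s => ?_
  refine TopCat.Presheaf.section_ext (⟨N.presheaf, N.isSheaf⟩ : TopCat.Sheaf Ab.{u} X.toTopCat) U _ _ fun x hx => ?_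
  exact (stalk_map_germ f hx s).symm.trans ((congrArg (fun t => t (M.presheaf.germ U x hx s)) (h x)).trans
    (stalk_map_germ g hx s))

theorem restrict_map_app {Y : Scheme.{u}} (j : Y ⟶ X) [IsOpenImmersion j] {M N : X.Modules} (f : M ⟶ N)
    (V : Y.Opens) : ((Scheme.Modules.restrictFunctor j).map f).app V = f.app (j ''ᵁ V) := rfl

/-- Maps that agree on an open agree on stalks there. -/
theorem stalk_eq_zero_of_restrict {Y : Scheme.{u}} (j : Y ⟶ X) [IsOpenImmersion j] {M N : X.Modules}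
    (f : M ⟶ N) (hf : (Scheme.Modules.restrictFunctor j).map f = 0) {x : X} (hx : x ∈ j.opensRange)
    (v : (St x).obj M) : (St x).map f v = 0 := by
  obtain ⟨U, hxU, s, rfl⟩ := M.presheaf.exists_germ_eq (x := x) v
  obtain ⟨y, rfl⟩ := hx
  have hle : j ''ᵁ (j ⁻¹ᵁ U) ≤ U := j.image_preimage_le U
  have hyW : j y ∈ j ''ᵁ (j ⁻¹ᵁ U) := ⟨y, hxU, rfl⟩
  have h0 : f.app (j ''ᵁ (j ⁻¹ᵁ U)) = 0 := by
    rw [← restrict_map_app j f, hf]
    rfl
  rw [← M.presheaf.germ_res_apply (homOfLE hle) (j y) hyW s]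
  refine (stalk_map_germ f hyW _).trans ?_
  rw [h0]
  exact map_zero _

/-- The extension by zero of the structure sheaf of an open. -/
noncomputable abbrev jO (V : X.Opens) : X.Modules :=
  (DCat.JShriek.shriek V.ι).obj (Coh.structureModule V.toScheme)

/-- The restriction of `jO V` to `V` is `O_V`. -/
noncomputable abbrev jOIso (V : X.Opens) :
    Coh.structureModule V.toScheme ≅ (Scheme.Modules.restrictFunctor V.ι).obj (jO V) :=
  asIso ((DCat.JShriek.shriekAdj V.ι).unit.app (Coh.structureModule V.toScheme))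

/-- A section over `V` as a map out of `jO V`. -/
noncomputable def jODesc {V : X.Opens} (M : X.Modules) (s : Γ(M.restrict V.ι, ⊤)) : jO V ⟶ M :=
  ((DCat.JShriek.shriekAdj V.ι).homEquiv _ _).symm (unitDesc (M.restrict V.ι) s)

theorem jO_separating (B : Set X.Opens) (hB : Opens.IsBasis B) {M N : X.Modules} (f g : M ⟶ N)
    (h : ∀ (V : B) (a : jO V.1 ⟶ M), a ≫ f = a ≫ g) : f = g := by
  refine Scheme.Modules.hom_ext _ _ fun U => ConcreteCategory.hom_ext _ _ fun s => ?_
  refine AmpleLib.sec_ext N _ _ fun x hx => ?_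
  obtain ⟨V', hVB, hxV, hVU⟩ := Opens.isBasis_iff_nbhd.1 hB hx
  let V : X.Opens := V'
  have hle : V.ι ''ᵁ ⊤ ≤ U := (V.ι_image_le ⊤).trans hVU
  let s' : Γ(M.restrict V.ι, ⊤) := resM M hle s
  have h1 := congrArg ((DCat.JShriek.shriekAdj V.ι).homEquiv _ _) (h ⟨V, hVB⟩ (jODesc M s'))
  rw [Adjunction.homEquiv_naturality_right, Adjunction.homEquiv_naturality_right] at h1
  simp only [jODesc, Equiv.apply_symm_apply] at h1
  have h2 := congrArg (fun φ => unitVal φ ⊤) h1
  have h3 : ∀ (φ : M ⟶ N),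
      unitVal (unitDesc (M.restrict V.ι) s' ≫ (Scheme.Modules.restrictFunctor V.ι).map φ) ⊤ =
        φ.app (V.ι ''ᵁ ⊤) (resM M hle s) := fun φ => by
    show φ.app (V.ι ''ᵁ ⊤) (unitVal (unitDesc (M.restrict V.ι) s') ⊤) = _
    rw [unitVal_unitDesc]
    exact congrArg (φ.app (V.ι ''ᵁ ⊤)) (resM_self (M.restrict V.ι) _ _)
  have h4 : f.app (V.ι ''ᵁ ⊤) (resM M hle s) = g.app (V.ι ''ᵁ ⊤) (resM M hle s) :=
    ((h3 f).symm.trans h2).trans (h3 g)
  exact ⟨V.ι ''ᵁ ⊤, hle, by rw [Scheme.Hom.image_top_eq_opensRange, Scheme.Opens.opensRange_ι]; exact hxV,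
    by rw [← app_resM, ← app_resM]; exact h4⟩

/-- A map from a submodule of `jO V` extends as soon as it does over `V`. -/
theorem exists_extend_of_restrict {V : X.Opens} {I G : X.Modules} (m : G ⟶ jO V) [Mono m] (φ : G ⟶ I)
    (ψ₀ : Coh.structureModule V.toScheme ⟶ I.restrict V.ι)
    (h : (Scheme.Modules.restrictFunctor V.ι).map m ≫ (jOIso V).inv ≫ ψ₀ =
      (Scheme.Modules.restrictFunctor V.ι).map φ) :
    ∃ ψ : jO V ⟶ I, m ≫ ψ = φ := by
  let adj := DCat.JShriek.shriekAdj V.ι
  let R := Scheme.Modules.restrictFunctor V.ι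
  refine ⟨(adj.homEquiv _ _).symm ψ₀, ?_⟩
  have hR : R.map (m ≫ (adj.homEquiv _ _).symm ψ₀) = R.map φ := by
    rw [← h, Functor.map_comp]
    refine congrArg (R.map m ≫ ·) ?_
    rw [← Iso.inv_hom_id_assoc (jOIso V) (R.map _)]
    refine congrArg ((jOIso V).inv ≫ ·) ?_
    exact (adj.homEquiv_unit _ _ _).symm.trans (Equiv.apply_symm_apply _ _)
  refine hom_ext_stalks fun x => ?_
  by_cases hx : x ∈ V.ι.opensRange
  · rw [← sub_eq_zero, ← Functor.map_sub]
    let d := m ≫ (adj.homEquiv _ _).symm ψ₀ - φ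
    have hd : R.map d = 0 := by rw [R.map_sub, hR, sub_self]
    exact ModuleCat.hom_ext (LinearMap.ext fun v => stalk_eq_zero_of_restrict V.ι d hd hx v)
  · exact (IsZero.of_mono ((St x).map m) (DCat.JShriek.isZero_stalk_shriek V.ι _ x hx)).eq_of_src _ _

/-- Baer's criterion. -/
theorem injective_of_extend_restrict (B : Set X.Opens) (hB : Opens.IsBasis B) (I : X.Modules)
    (h : ∀ V ∈ B, ∀ {G : V.toScheme.Modules} (m : G ⟶ Coh.structureModule V.toScheme) [Mono m]
      (φ : G ⟶ I.restrict V.ι), ∃ ψ : Coh.structureModule V.toScheme ⟶ I.restrict V.ι, m ≫ ψ = φ) :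
    Injective I := by
  haveI : IsGrothendieckAbelian.{u} X.Modules := DCat.schemeModules_isGrothendieckAbelian X
  refine injective_of_extend (fun V : B => jO V.1) (fun f g => jO_separating B hB f g) I fun V {G} m _ φ => ?_
  haveI : Mono ((Scheme.Modules.restrictFunctor V.1.ι).map m ≫ (jOIso V.1).inv) := inferInstance
  obtain ⟨ψ₀, hψ₀⟩ := h V.1 V.2 ((Scheme.Modules.restrictFunctor V.1.ι).map m ≫ (jOIso V.1).inv)
    ((Scheme.Modules.restrictFunctor V.1.ι).map φ)
  exact exists_extend_of_restrict m φ ψ₀ ((Category.assoc _ _ _).symm.trans hψ₀)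

/-- Injectivity is local. -/
theorem injective_of_locally (I : X.Modules)
    (hI : ∀ x : X, ∃ U : X.Opens, x ∈ U ∧ Injective ((Scheme.Modules.restrictFunctor U.ι).obj I)) :
    Injective I := by
  let B : Set X.Opens := {V | ∃ U : X.Opens, V ≤ U ∧ Injective ((Scheme.Modules.restrictFunctor U.ι).obj I)}
  refine injective_of_extend_restrict B (Opens.isBasis_iff_nbhd.2 fun {U} {x} hx => ?_) I fun V hV {G} m _ φ => ?_
  · obtain ⟨W, hxW, hW⟩ := hI x
    exact ⟨U ⊓ W, ⟨W, inf_le_right, hW⟩, ⟨hx, hxW⟩, inf_le_left⟩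
  · obtain ⟨U, hVU, hU⟩ := hV
    haveI := hU
    let e : (Scheme.Modules.restrictFunctor V.ι).obj I ≅ (Scheme.Modules.restrictFunctor (X.homOfLE hVU)).obj
        ((Scheme.Modules.restrictFunctor U.ι).obj I) :=
      ((Scheme.Modules.restrictFunctorCongr (X.homOfLE_ι hVU)).app I).symm ≪≫
        (Scheme.Modules.restrictFunctorComp (X.homOfLE hVU) U.ι).app I
    haveI := injective_restrict (X.homOfLE hVU) ((Scheme.Modules.restrictFunctor U.ι).obj I)
    haveI : Injective ((Scheme.Modules.restrictFunctor V.ι).obj I) := Injective.of_iso e.symm inferInstance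
    exact Injective.factors φ m

end Groth.Agent.InjMod14
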