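import Groth.Agent.InjMod14.Baer
import Mathlib.CategoryTheory.Abelian.Refinements

/-!
# Injective hulls in Grothendieck abelian categories
-/

set_option autoImplicit false
set_option linter.style.haveILetI false
set_option backward.defeqAttrib.useBackward true
set_option backward.isDefEq.respectTransparency false

universe w v u

open CategoryTheory CategoryTheory.Limits

namespace Groth.Agent.InjMod14

variable {C : Type u} [Category.{v} C] [Abelian C]

/-- An essential map: a map out of the target is mono as soon as it is so on the source. -/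
def IsEssentialMap {A E : C} (e : A ⟶ E) : Prop := ∀ ⦃Z : C⦄ (g : E ⟶ Z), Mono (e ≫ g) → Mono g

/-- `A` and `B` meeting trivially is symmetric. -/
theorem mono_comp_cokernel_symm {A B X : C} (a : A ⟶ X) [Mono a] (b : B ⟶ X) [Mono b]
    (h : Mono (b ≫ cokernel.π a)) : Mono (a ≫ cokernel.π b) := by
  refine Preadditive.mono_of_cancel_zero _ fun {T} x hx => ?_
  let y : T ⟶ B := Abelian.monoLift b (x ≫ a) (by rw [Category.assoc, hx])
  have hy : y ≫ b = x ≫ a := Abelian.monoLift_comp _ _ _
  have h0 : y = 0 := zero_of_comp_mono (b ≫ cokernel.π a) (by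
    rw [← Category.assoc, hy, Category.assoc, cokernel.condition, comp_zero])
  exact zero_of_comp_mono a (by rw [← hy, h0, zero_comp])

variable [IsGrothendieckAbelian.{w} C]

/-- The union of a chain of subobjects: a map out of it is mono if it is so on each member. -/
theorem exists_union {B : C} (c : Set (Subobject B)) (hc : IsChain (· ≤ ·) c) (hne : c.Nonempty) :
    ∃ (M : Subobject B) (hM : ∀ P ∈ c, P ≤ M), ∀ ⦃Z : C⦄ (g : (M : C) ⟶ Z),
      (∀ (P) (hP : P ∈ c), Mono (Subobject.ofLE P M (hM P hP) ≫ g)) → Mono g := by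
  classical
  let e := (equivShrink.{w} c).trans (Idx.equiv _)
  letI : PartialOrder (Idx (Shrink.{w} c)) := PartialOrder.lift (fun a => (e.symm a).1)
    (Subtype.val_injective.comp e.symm.injective)
  obtain ⟨P₀, hP₀⟩ := hne
  haveI : Nonempty (Idx (Shrink.{w} c)) := ⟨e ⟨P₀, hP₀⟩⟩
  haveI : IsDirectedOrder (Idx (Shrink.{w} c)) := ⟨fun a b => by
    rcases hc.total (e.symm a).2 (e.symm b).2 with h | h
    · exact ⟨b, h, le_rfl⟩
    · exact ⟨a, le_rfl, h⟩⟩
  let P : Idx (Shrink.{w} c) → Subobject B := fun a => (e.symm a).1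
  let F : Idx (Shrink.{w} c) ⥤ MonoOver B :=
    { obj := fun a => MonoOver.mk (P a).arrow
      map := fun {a b} hab => MonoOver.homMk (Subobject.ofLE _ _
        (show P a ≤ P b from (leOfHom hab : a ≤ b))) (Subobject.ofLE_arrow _)
      map_id := fun _ => Subsingleton.elim _ _
      map_comp := fun _ _ => Subsingleton.elim _ _ }
  let M : Subobject B := ⨆ a, P a
  let co : Cocone (F ⋙ MonoOver.forget _) :=
    { pt := Over.mk M.arrow
      ι :=
        { app := fun a => Over.homMk (Subobject.ofLE _ _ (le_iSup P a)) (Subobject.ofLE_arrow _)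
          naturality := fun a b h => Over.OverMorphism.ext (by
            simp [F, MonoOver.forget]) } }
  haveI : Mono co.pt.hom := inferInstanceAs (Mono M.arrow)
  have hco := IsGrothendieckAbelian.isColimitMapCoconeOfSubobjectMkEqISup F co (by
    simp [co, F, M, Subobject.mk_arrow])
  have hM : ∀ Q ∈ c, Q ≤ M := fun Q hQ => by
    have h := le_iSup P (e ⟨Q, hQ⟩)
    rwa [show P (e ⟨Q, hQ⟩) = Q by simp [P]] at h
  refine ⟨M, hM, fun Z g hg => ?_⟩
  let α : F ⋙ MonoOver.forget _ ⋙ Over.forget _ ⟶ (Functor.const _).obj Z :=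
    { app := fun a => Subobject.ofLE _ _ (le_iSup P a) ≫ g
      naturality := fun a b h => by
        simp [F, MonoOver.forget] }
  haveI : ∀ a, Mono (α.app a) := fun a => hg (P a) (e.symm a).2
  have := NatTrans.mono_of_mono_app α
  haveI : IsConnected (Idx (Shrink.{w} c)) := IsFiltered.isConnected _
  exact colim.map_mono' α hco (isColimitConstCocone _ Z) g fun a => (Category.comp_id _).symm

/-- A mono into an injective object factors through an essential one into an injective object. -/
theorem exists_essential_injective {A I : C} [Injective I] (i : A ⟶ I) [Mono i] :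
    ∃ (E : C) (e : A ⟶ E), Mono e ∧ Injective E ∧ IsEssentialMap e := by
  classical
  let S : Set (Subobject I) := {P | ∃ j : A ⟶ (P : C), j ≫ P.arrow = i ∧ IsEssentialMap j}
  have hS₀ : Subobject.mk i ∈ S := by
    refine ⟨(Subobject.underlyingIso i).inv, Subobject.underlyingIso_arrow i, fun Z g hg => ?_⟩
    rw [← Iso.hom_inv_id_assoc (Subobject.underlyingIso i) g]
    exact mono_comp _ _
  obtain ⟨P, -, hP⟩ := zorn_le_nonempty₀ S (fun c hcS hc Q hQ => by
    obtain ⟨M, hM, hMg⟩ := exists_union c hc ⟨Q, hQ⟩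
    obtain ⟨j, hj, hjess⟩ := hcS hQ
    refine ⟨M, ⟨j ≫ Subobject.ofLE Q M (hM Q hQ), by rw [Category.assoc, Subobject.ofLE_arrow, hj],
      fun Z g hg => hMg g fun R hR => ?_⟩, hM⟩
    obtain ⟨j', hj', hess⟩ := hcS hR
    refine hess _ ?_
    have : j' ≫ Subobject.ofLE R M (hM R hR) = j ≫ Subobject.ofLE Q M (hM Q hQ) := by
      rw [← cancel_mono M.arrow]
      simp [hj, hj']
    rwa [← Category.assoc, this]) _ hS₀
  obtain ⟨⟨j, hj, hess⟩, hPmax⟩ := hP
  haveI : Mono j := mono_of_mono_fac hj
  refine ⟨(P : C), j, inferInstance, ?_, hess⟩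
  let T : Set (Subobject I) := {Q | Mono (Q.arrow ≫ cokernel.π P.arrow)}
  have hT₀ : (⊥ : Subobject I) ∈ T :=
    Preadditive.mono_of_cancel_zero _ fun {Y} x _ =>
      zero_of_comp_mono (⊥ : Subobject I).arrow (by rw [Subobject.bot_arrow, comp_zero])
  obtain ⟨Q, -, hQ⟩ := zorn_le_nonempty₀ T (fun c hcT hc R hR => by
    obtain ⟨M, hM, hMg⟩ := exists_union c hc ⟨R, hR⟩
    refine ⟨M, hMg _ fun R' hR' => ?_, hM⟩
    rw [Subobject.ofLE_arrow_assoc]
    exact hcT hR') _ hT₀
  obtain ⟨hQT, hQmax⟩ := hQ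
  let π := cokernel.π Q.arrow
  let h := P.arrow ≫ π
  haveI hh : Mono h := mono_comp_cokernel_symm P.arrow Q.arrow hQT
  have hess' : IsEssentialMap h := fun Z g hg => by
    let K := kernelSubobject (π ≫ g)
    have hQK : Q ≤ K := le_kernelSubobject _ _ (by simp [π])
    have hK : K ∈ T := by
      refine Preadditive.mono_of_cancel_zero _ fun {Y} x hx => ?_
      let y : Y ⟶ (P : C) := Abelian.monoLift P.arrow (x ≫ K.arrow) (by rw [Category.assoc, hx])
      have hy : y ≫ P.arrow = x ≫ K.arrow := Abelian.monoLift_comp _ _ _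
      have h0 : y = 0 := zero_of_comp_mono (h ≫ g) (by
        rw [show y ≫ h ≫ g = (y ≫ P.arrow) ≫ π ≫ g by simp [h], hy, Category.assoc,
          kernelSubobject_arrow_comp, comp_zero])
      exact zero_of_comp_mono K.arrow (by rw [← hy, h0, zero_comp])
    have hKQ : K ≤ Q := hQmax hK hQK
    refine Preadditive.mono_of_cancel_zero _ fun {Y} t ht => ?_
    obtain ⟨Y', p, hp, t', ht'⟩ := surjective_up_to_refinements_of_epi π t
    let l : Y' ⟶ (K : C) := factorThruKernelSubobject _ t' (by
      rw [← Category.assoc, ← ht', Category.assoc, ht, comp_zero])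
    have hl : l ≫ K.arrow = t' := factorThruKernelSubobject_comp_arrow _ _ _
    rw [← cancel_epi p, comp_zero, ht', ← hl, ← Subobject.ofLE_arrow hKQ]
    simp only [π, Category.assoc, cokernel.condition, comp_zero]
  let φ := Injective.factorThru P.arrow h
  have hφ : h ≫ φ = P.arrow := Injective.comp_factorThru _ _
  haveI : Mono φ := hess' φ (by rw [hφ]; infer_instance)
  let ψ₀ := h ≫ (Subobject.underlyingIso φ).inv
  have hψ₀ : ψ₀ ≫ (Subobject.mk φ).arrow = P.arrow := by simp [ψ₀, hφ]
  have hle : P ≤ Subobject.mk φ := Subobject.le_of_comm ψ₀ hψ₀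
  have hmem : Subobject.mk φ ∈ S := by
    refine ⟨j ≫ ψ₀, by rw [Category.assoc, hψ₀, hj], fun Z g hg => ?_⟩
    have h1 : Mono (h ≫ (Subobject.underlyingIso φ).inv ≫ g) := by
      refine hess _ ?_
      simpa [ψ₀] using hg
    haveI := hess' _ h1
    rw [← Iso.hom_inv_id_assoc (Subobject.underlyingIso φ) g]
    exact mono_comp _ _
  have hle' : Subobject.mk φ ≤ P := hPmax hmem hle
  let ψ := Subobject.ofMkLE φ P hle'
  have hret : P.arrow ≫ π ≫ ψ = 𝟙 _ := by
    rw [← cancel_mono P.arrow, Category.id_comp]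
    simp only [Category.assoc, ψ, Subobject.ofMkLE_arrow]
    simpa [h] using hφ
  exact ⟨fun {X Y} f m _ => ⟨Injective.factorThru (f ≫ P.arrow) m ≫ π ≫ ψ, by
    rw [← Category.assoc, Injective.comp_factorThru, Category.assoc, hret, Category.comp_id]⟩⟩

end Groth.Agent.InjMod14
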