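import Groth.Agent.InjMod14.Tilde
import Groth.Agent.InjMod14.Hull
import Groth.Agent.AffSchLib.TildeExact

/-!
# Quasi-coherent modules on locally Noetherian schemes embed into quasi-coherent injective modules
-/

set_option autoImplicit false
set_option linter.style.haveILetI false
set_option backward.isDefEq.respectTransparency false
set_option backward.isDefEq.respectTransparency.types false
set_option maxHeartbeats 1000000

universe u

open CategoryTheory CategoryTheory.Limits AlgebraicGeometry Opposite TopologicalSpace
open Groth.Agent.Coherent Groth.Agent.ModStalk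

namespace Groth.Agent.InjMod14

variable {X Y : Scheme.{u}}

/-- Restriction to an open subscheme preserves essential maps. -/
theorem isEssentialMap_restrict (j : Y ⟶ X) [IsOpenImmersion j] {F E : X.Modules} {e : F ⟶ E} [Mono e]
    (he : IsEssentialMap e) : IsEssentialMap ((Scheme.Modules.restrictFunctor j).map e) := by
  intro Z g hg
  let R := Scheme.Modules.restrictFunctor j
  let adj := DCat.JShriek.shriekAdj j
  let St := DerSch.stalkFunctor X
  haveI : R.IsRightAdjoint := adj.isRightAdjoint
  let k : kernel g ⟶ R.obj E := kernel.ι g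
  let a := (adj.homEquiv _ _).symm k
  have hk : adj.unit.app (kernel g) ≫ R.map a = k :=
    (adj.homEquiv_unit _ _ _).symm.trans (Equiv.apply_symm_apply _ _)
  let π := cokernel.π a
  haveI : R.IsLeftAdjoint := (Scheme.Modules.restrictAdjunction j).isLeftAdjoint
  have h0 : R.map a ≫ g = 0 := by
    rw [← cancel_epi (adj.unit.app (kernel g)), comp_zero]
    exact (Category.assoc _ _ _).symm.trans ((congrArg (· ≫ g) hk).trans (kernel.condition g))
  let g' : R.obj (cokernel a) ⟶ Z := inv (cokernelComparison a R) ≫ cokernel.desc (R.map a) g h0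
  have hg' : R.map π ≫ g' = g := by
    simp only [π, g']
    rw [← π_comp_cokernelComparison a R, Category.assoc, IsIso.hom_inv_id_assoc, cokernel.π_desc]
  -- `e ≫ π` is a monomorphism
  haveI hmono : Mono (e ≫ π) := by
    refine Preadditive.mono_of_kernel_zero ?_
    let κ := kernel.ι (e ≫ π)
    have hκ : κ ≫ e ≫ π = 0 := kernel.condition _
    refine hom_ext_stalks fun x => ?_
    rw [Functor.map_zero]
    by_cases hx : x ∈ j.opensRange
    · refine ModuleCat.hom_ext (LinearMap.ext fun v => stalk_eq_zero_of_restrict j κ ?_ hx v)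
      refine zero_of_comp_mono (R.map e ≫ g) ?_
      calc R.map κ ≫ R.map e ≫ g = R.map κ ≫ R.map e ≫ R.map π ≫ g' := by rw [hg']
        _ = R.map (κ ≫ e ≫ π) ≫ g' := by simp only [Functor.map_comp, Category.assoc]
        _ = 0 := by rw [hκ, R.map_zero, zero_comp]
    · have hza : (St x).map a = 0 := (DCat.JShriek.isZero_stalk_shriek j _ x hx).eq_of_src _ _
      haveI : Mono (cokernel.π ((St x).map a)) :=
        Preadditive.mono_of_cancel_zero _ fun {W} t ht => by
          let d : cokernel ((St x).map a) ⟶ (St x).obj E := cokernel.desc _ (𝟙 _) (by rw [hza, zero_comp])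
          have hd : cokernel.π ((St x).map a) ≫ d = 𝟙 _ := cokernel.π_desc _ _ _
          rw [← Category.comp_id t, ← hd, ← Category.assoc, ht, zero_comp]
      haveI : Mono ((St x).map π) := by
        rw [← π_comp_cokernelComparison a (St x)]
        infer_instance
      haveI : Mono ((St x).map e ≫ (St x).map π) := by
        haveI : Mono ((St x).map e) := inferInstance
        infer_instance
      refine zero_of_comp_mono ((St x).map e ≫ (St x).map π) ?_
      rw [← (St x).map_comp, ← (St x).map_comp, hκ, Functor.map_zero]
  haveI := he π hmono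
  have ha : a = 0 := zero_of_comp_mono π (cokernel.condition a)
  exact Preadditive.mono_of_kernel_zero (hk.symm.trans (by rw [ha, R.map_zero, comp_zero]))

/-- A retract of an injective object is injective. -/
theorem injective_of_retraction {C : Type*} [Category C] {A B : C} (i : A ⟶ B) (r : B ⟶ A) (h : i ≫ r = 𝟙 A)
    [Injective B] : Injective A :=
  ⟨fun f m _ => ⟨Injective.factorThru (f ≫ i) m ≫ r, by
    rw [← Category.assoc, Injective.comp_factorThru, Category.assoc, h, Category.comp_id]⟩⟩

/-- A retract of a quasi-coherent module is quasi-coherent. -/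
theorem isQCoh_of_retraction {A B : X.Modules} (i : A ⟶ B) (r : B ⟶ A) (h : i ≫ r = 𝟙 A)
    [Coh.IsQCoh B] : Coh.IsQCoh A := by
  haveI := Coherent.isQCoh_kernel (𝟙 B - r ≫ i)
  refine Coherent.isQCoh_of_iso (M := kernel (𝟙 B - r ≫ i))
    { hom := kernel.ι _ ≫ r
      inv := kernel.lift _ i (by
        rw [Preadditive.comp_sub, Category.comp_id, ← Category.assoc, h, Category.id_comp, sub_self])
      hom_inv_id := by
        rw [← cancel_mono (kernel.ι (𝟙 B - r ≫ i))]
        have h0 := kernel.condition (𝟙 B - r ≫ i)
        rw [Preadditive.comp_sub, Category.comp_id, sub_eq_zero] at h0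
        simp [← h0]
      inv_hom_id := by rw [kernel.lift_ι_assoc, h] }

/-- Every quasi-coherent module on a locally Noetherian scheme is a submodule of an injective module
which is quasi-coherent. -/
theorem exists_qcoh_injective [IsLocallyNoetherian X] (F : X.Modules) (hF : Coh.IsQCoh F) :
    ∃ (J : X.Modules) (e : F ⟶ J), Mono e ∧ Coh.IsQCoh J ∧ Injective J := by
  haveI : IsGrothendieckAbelian.{u} X.Modules := DCat.schemeModules_isGrothendieckAbelian X
  haveI : EnoughInjectives X.Modules := inferInstance
  obtain ⟨J, e, he, hJ, hess⟩ := exists_essential_injective (Injective.ι F)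
  haveI := he
  haveI := hJ
  refine ⟨J, e, inferInstance, ?_, inferInstance⟩
  refine Coherent.isQCoh_of_openImmersion_cover _ (fun U : X.affineOpens => U.2.fromSpec) (fun x => ?_) fun U => ?_
  · obtain ⟨V, hV, hxV, -⟩ := Opens.isBasis_iff_nbhd.mp X.isBasis_affineOpens (Opens.mem_top x)
    exact ⟨⟨V, hV⟩, by rw [hV.opensRange_fromSpec]; exact hxV⟩
  haveI := hF
  let j := U.2.fromSpec
  let R := Scheme.Modules.restrictFunctor j
  haveI := Flatn12.isQCoh_restrict_fromSpec' F U.2
  haveI : IsNoetherianRing Γ(X, U.1) := IsLocallyNoetherian.component_noetherian U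
  let M : ModuleCat.{u} Γ(X, U.1) := moduleSpecΓFunctor.obj (F.restrict j)
  let i : tilde M ≅ F.restrict j := asIso (F.restrict j).fromTildeΓ
  let H : ModuleCat.{u} Γ(X, U.1) := Injective.under M
  haveI : Module.Injective Γ(X, U.1) H := Module.injective_module_of_injective_object (inj := inferInstanceAs (Injective H))
  haveI : Injective (tilde H) := injective_tilde H
  haveI := Groth.Agent.AffSchLib.preservesFiniteLimits_tilde Γ(X, U.1)
  haveI : Mono ((tilde.functor Γ(X, U.1)).map (Injective.ι M)) := inferInstance
  let v : R.obj F ⟶ tilde H := i.inv ≫ (tilde.functor Γ(X, U.1)).map (Injective.ι M)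
  haveI : Mono v := mono_comp _ _
  haveI : R.IsRightAdjoint := (DCat.JShriek.shriekAdj j).isRightAdjoint
  haveI : Injective (R.obj J) := Coherent.injective_restrict j J
  let φ : R.obj J ⟶ tilde H := Injective.factorThru v (R.map e)
  have hφ : R.map e ≫ φ = v := Injective.comp_factorThru _ _
  haveI : Mono φ := isEssentialMap_restrict j hess φ (by rw [hφ]; infer_instance)
  let r : tilde H ⟶ R.obj J := Injective.factorThru (𝟙 (R.obj J)) φ
  exact isQCoh_of_retraction φ r (Injective.comp_factorThru _ _)

end Groth.Agent.InjMod14
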