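import Mathlib.CategoryTheory.Abelian.CommSq
import Mathlib.CategoryTheory.Abelian.GrothendieckCategory.EnoughInjectives
import Mathlib.Order.Zorn

/-!
# Baer's criterion with a separating family
-/

set_option autoImplicit false
set_option backward.defeqAttrib.useBackward true
set_option backward.isDefEq.respectTransparency false

universe w v u t

open CategoryTheory CategoryTheory.Limits

namespace Groth.Agent.InjMod14

variable {C : Type u} [Category.{v} C] [Abelian C] [IsGrothendieckAbelian.{w} C]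

/-- A map on a subobject of `B` extending `f`. -/
structure PExt {A B I : C} (i : A ⟶ B) (f : A ⟶ I) where
  P : Subobject B
  j : A ⟶ (P : C)
  hj : j ≫ P.arrow = i
  g : (P : C) ⟶ I
  hg : j ≫ g = f

/-- Extension order. -/
def PExt.le {A B I : C} {i : A ⟶ B} {f : A ⟶ I} (x y : PExt i f) : Prop :=
  ∃ h : x.P ≤ y.P, Subobject.ofLE _ _ h ≫ y.g = x.g

instance {A B I : C} {i : A ⟶ B} {f : A ⟶ I} : Preorder (PExt i f) where
  le := PExt.le
  le_refl x := ⟨le_rfl, by rw [Subobject.ofLE_refl, Category.id_comp]⟩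
  le_trans := by
    rintro x y z ⟨h, e⟩ ⟨h', e'⟩
    exact ⟨h.trans h', by rw [← Subobject.ofLE_comp_ofLE _ _ _ h h', Category.assoc, e', e]⟩

/-- An index type carrying no structure of its own. -/
structure Idx (α : Type w) : Type w where
  val : α

/-- The equivalence with the index type. -/
def Idx.equiv (α : Type w) : α ≃ Idx α := ⟨Idx.mk, Idx.val, fun _ => rfl, fun _ => rfl⟩

theorem exists_upperBound {A B I : C} {i : A ⟶ B} {f : A ⟶ I} (c : Set (PExt i f))
    (hc : IsChain (· ≤ ·) c) (x₀ : PExt i f) (hx₀ : x₀ ∈ c) : ∃ y, ∀ x ∈ c, x ≤ y := by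
  classical
  let S : Set (Subobject B) := PExt.P '' c
  let e := (equivShrink.{w} S).trans (Idx.equiv _)
  letI : PartialOrder (Idx (Shrink.{w} S)) := PartialOrder.lift (fun a => (e.symm a).1)
    (Subtype.val_injective.comp e.symm.injective)
  choose x hxc hxP using fun a : Idx (Shrink.{w} S) => (e.symm a).2
  haveI : Nonempty (Idx (Shrink.{w} S)) := ⟨e ⟨x₀.P, x₀, hx₀, rfl⟩⟩
  haveI : IsDirectedOrder (Idx (Shrink.{w} S)) := ⟨fun a b => by
    rcases hc.total (hxc a) (hxc b) with h | h
    · exact ⟨b, show (e.symm a).1 ≤ (e.symm b).1 from hxP a ▸ hxP b ▸ h.1, le_rfl⟩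
    · exact ⟨a, le_rfl, show (e.symm b).1 ≤ (e.symm a).1 from hxP a ▸ hxP b ▸ h.1⟩⟩
  let F : Idx (Shrink.{w} S) ⥤ MonoOver B :=
    { obj := fun a => MonoOver.mk (x a).P.arrow
      map := fun {a b} hab => MonoOver.homMk (Subobject.ofLE _ _
        (show (x a).P ≤ (x b).P from (hxP a).le.trans ((show (e.symm a).1 ≤ (e.symm b).1 from (leOfHom hab : a ≤ b)).trans (hxP b).ge))) (Subobject.ofLE_arrow _)
      map_id := fun _ => Subsingleton.elim _ _
      map_comp := fun _ _ => Subsingleton.elim _ _ }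
  let M : Subobject B := ⨆ a, (x a).P
  let co : Cocone (F ⋙ MonoOver.forget _) :=
    { pt := Over.mk M.arrow
      ι :=
        { app := fun a => Over.homMk (Subobject.ofLE _ _ (le_iSup (fun a => (x a).P) a)) (Subobject.ofLE_arrow _)
          naturality := fun a b h => Over.OverMorphism.ext (by
            simp [F, MonoOver.forget]) } }
  haveI : Mono co.pt.hom := inferInstanceAs (Mono M.arrow)
  have hco := IsGrothendieckAbelian.isColimitMapCoconeOfSubobjectMkEqISup F co (by
    simp [co, F, M, Subobject.mk_arrow])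
  have hcomp : ∀ {p q : PExt i f}, p ∈ c → q ∈ c → ∀ h : p.P ≤ q.P, Subobject.ofLE _ _ h ≫ q.g = p.g := by
    intro p q hp hq h
    rcases hc.total hp hq with ⟨_, e1⟩ | ⟨h', e1⟩
    · exact e1
    · rw [← e1, ← Category.assoc, Subobject.ofLE_comp_ofLE, Subobject.ofLE_refl, Category.id_comp]
  let cg : Cocone (F ⋙ MonoOver.forget _ ⋙ Over.forget _) :=
    { pt := I
      ι :=
        { app := fun a => (x a).g
          naturality := fun a b h => by
            simpa [F, MonoOver.forget] using hcomp (hxc a) (hxc b) _ } }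
  obtain ⟨a₀⟩ : Nonempty (Idx (Shrink.{w} S)) := inferInstance
  have hfac : ∀ a, Subobject.ofLE _ _ (le_iSup (fun a => (x a).P) a) ≫ hco.desc cg = (x a).g :=
    fun a => hco.fac cg a
  refine ⟨⟨M, (x a₀).j ≫ Subobject.ofLE _ _ (le_iSup (fun a => (x a).P) a₀), ?_, hco.desc cg, ?_⟩, fun p hp => ?_⟩
  · rw [Category.assoc, Subobject.ofLE_arrow, (x a₀).hj]
  · rw [Category.assoc, hfac a₀, (x a₀).hg]
  · let a := e ⟨p.P, p, hp, rfl⟩
    have hp' : p.P ≤ (x a).P := le_of_eq (by rw [hxP a]; simp [a])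
    refine ⟨hp'.trans (le_iSup (fun a => (x a).P) a), ?_⟩
    rw [← Subobject.ofLE_comp_ofLE _ _ _ hp' (le_iSup (fun a => (x a).P) a), Category.assoc, hfac a]
    exact hcomp hp (hxc a) hp'

/-- Baer's criterion: it suffices to extend maps from subobjects of a separating family. -/
theorem injective_of_extend {ι : Type t} (K : ι → C)
    (hK : ∀ {X Y : C} (f g : X ⟶ Y), (∀ (i : ι) (a : K i ⟶ X), a ≫ f = a ≫ g) → f = g) (I : C)
    (h : ∀ (i : ι) {G : C} (m : G ⟶ K i) [Mono m] (φ : G ⟶ I), ∃ ψ : K i ⟶ I, m ≫ ψ = φ) :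
    Injective I := by
  constructor
  intro A B f i _
  let x₀ : PExt i f :=
    { P := Subobject.mk i
      j := (Subobject.underlyingIso i).inv
      hj := Subobject.underlyingIso_arrow i
      g := (Subobject.underlyingIso i).hom ≫ f
      hg := Iso.inv_hom_id_assoc _ _ }
  obtain ⟨m, -, hm⟩ := zorn_le_nonempty₀ (Set.univ : Set (PExt i f))
    (fun c _ hc y hy => let ⟨z, hz⟩ := exists_upperBound c hc y hy; ⟨z, Set.mem_univ _, hz⟩) x₀ (Set.mem_univ _)
  by_cases htop : IsIso m.P.arrow
  · exact ⟨inv m.P.arrow ≫ m.g, (congrArg (· ≫ inv m.P.arrow ≫ m.g) m.hj.symm).trans (by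
      simp [m.hg])⟩
  exfalso
  obtain ⟨k, a, ha⟩ : ∃ (k : ι) (a : K k ⟶ B), ∀ b : K k ⟶ (m.P : C), b ≫ m.P.arrow ≠ a := by
    by_contra! hall
    refine htop ?_
    have : Epi m.P.arrow := Preadditive.epi_of_cancel_zero _ fun {Q} q hq => hK q 0 fun k a => by
      obtain ⟨b, rfl⟩ := hall k a
      rw [Category.assoc, hq, comp_zero, comp_zero]
    exact isIso_of_mono_of_epi _
  obtain ⟨ψ, hψ⟩ := h k (pullback.snd m.P.arrow a) (pullback.fst m.P.arrow a ≫ m.g)
  let p' : pushout (pullback.fst m.P.arrow a) (pullback.snd m.P.arrow a) ⟶ B :=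
    pushout.desc m.P.arrow a pullback.condition
  haveI : Mono p' := (IsPushout.of_hasPushout _ _).mono_of_isPullback_of_mono
    (IsPullback.of_hasPullback m.P.arrow a) _ (by simp [p']) (by simp [p'])
  let y : PExt i f :=
    { P := Subobject.mk p'
      j := m.j ≫ pushout.inl _ _ ≫ (Subobject.underlyingIso p').inv
      hj := by simp [p', m.hj]
      g := (Subobject.underlyingIso p').hom ≫ pushout.desc m.g ψ hψ.symm
      hg := by simp [m.hg] }
  have hle : m.P ≤ y.P := Subobject.le_mk_of_comm (pushout.inl _ _) (by simp [p'])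
  have hof : Subobject.ofLE _ _ hle = pushout.inl _ _ ≫ (Subobject.underlyingIso p').inv := by
    rw [← cancel_mono y.P.arrow, Subobject.ofLE_arrow]
    simp [y, p']
  have hmy : m ≤ y := ⟨hle, by rw [hof]; simp [y]⟩
  obtain ⟨h', -⟩ := hm.2 (Set.mem_univ y) hmy
  refine ha (pushout.inr _ _ ≫ (Subobject.underlyingIso p').inv ≫ Subobject.ofLE _ _ h') ?_
  simp [y, p']

end Groth.Agent.InjMod14
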