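import Groth.Agent.InjMod14.Sums
import Groth.Prelude.Def_CxOX

/-!
# Extensions by zero from Noetherian opens are Noetherian objects
-/

set_option autoImplicit false
set_option backward.isDefEq.respectTransparency false
set_option maxHeartbeats 1000000

universe u

open CategoryTheory CategoryTheory.Limits AlgebraicGeometry Opposite TopologicalSpace
open Groth.Agent.Coherent Groth.Agent.PicLib

namespace Groth.Agent.InjMod14

variable {U X : Scheme.{u}} (j : U ⟶ X) [IsOpenImmersion j]

theorem hom_sum_apply {R : Type u} [CommRing R] {M N : ModuleCat.{u} R} {κ : Type u} (s : Finset κ)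
    (f : κ → (M ⟶ N)) (z : M) : (∑ i ∈ s, f i) z = ∑ i ∈ s, f i z := by
  classical
  induction s using Finset.induction with
  | empty => rfl
  | insert a s ha ih => rw [Finset.sum_insert ha, Finset.sum_insert ha, ← ih]; rfl

/-- An element of the restricted stalk, represented by a section, with image in a given submodule. -/
def RepIn (M : X.Modules) {u : U} (A : Submodule (X.presheaf.stalk (j u)) (M.presheaf.stalk (j u)))
    (v : (M.restrict j).presheaf.stalk u) : Prop :=
  ∃ (W : U.Opens) (hu : u ∈ W) (t : Γ(M.restrict j, W)),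
    (M.restrict j).presheaf.germ W u hu t = v ∧
      M.presheaf.germ (j ''ᵁ W) (j u) ⟨u, hu, rfl⟩ (show Γ(M, j ''ᵁ W) from t) ∈ A

theorem repIn_of_mem_span (M : X.Modules) {u : U}
    (A : Submodule (X.presheaf.stalk (j u)) (M.presheaf.stalk (j u)))
    {S : Set ((M.restrict j).presheaf.stalk u)} (hS : ∀ v ∈ S, RepIn j M A v)
    {v : (M.restrict j).presheaf.stalk u} (hv : v ∈ Submodule.span (U.presheaf.stalk u) S) : RepIn j M A v := by
  induction hv using Submodule.span_induction with
  | mem v hv => exact hS v hv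
  | zero => exact ⟨⊤, trivial, 0, map_zero _, by
      rw [show (show Γ(M, j ''ᵁ (⊤ : U.Opens)) from (0 : Γ(M.restrict j, (⊤ : U.Opens)))) = 0 from rfl, map_zero]
      exact zero_mem A⟩
  | add a b _ _ ha hb =>
    obtain ⟨W, hu, t, rfl, ht⟩ := ha
    obtain ⟨W', hu', t', rfl, ht'⟩ := hb
    have h1 : j ''ᵁ (W ⊓ W') ≤ j ''ᵁ W := j.image_mono inf_le_left
    have h2 : j ''ᵁ (W ⊓ W') ≤ j ''ᵁ W' := j.image_mono inf_le_right
    have hy : j u ∈ j ''ᵁ (W ⊓ W') := ⟨u, ⟨hu, hu'⟩, rfl⟩
    refine ⟨W ⊓ W', ⟨hu, hu'⟩, resM (M.restrict j) inf_le_left t + resM (M.restrict j) inf_le_right t', ?_, ?_⟩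
    · rw [map_add, germ_res', germ_res']
    · show M.presheaf.germ (j ''ᵁ (W ⊓ W')) (j u) hy
        (resM M h1 (show Γ(M, j ''ᵁ W) from t) + resM M h2 (show Γ(M, j ''ᵁ W') from t')) ∈ A
      rw [map_add, germ_res', germ_res']
      exact A.add_mem ht ht'
  | smul c a _ ha =>
    obtain ⟨W, hu, t, rfl, ht⟩ := ha
    obtain ⟨W', hu', r, rfl⟩ := U.presheaf.exists_germ_eq (x := u) c
    have h1 : j ''ᵁ (W ⊓ W') ≤ j ''ᵁ W := j.image_mono inf_le_left
    have hy : j u ∈ j ''ᵁ (W ⊓ W') := ⟨u, ⟨hu, hu'⟩, rfl⟩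
    let r' : Γ(U, W ⊓ W') := U.presheaf.map (homOfLE inf_le_right).op r
    refine ⟨W ⊓ W', ⟨hu, hu'⟩, r' • resM (M.restrict j) inf_le_left t, ?_, ?_⟩
    · rw [QCohLoc.germ_smul' (M.restrict j), germ_res', U.presheaf.germ_res_apply]
    · show M.presheaf.germ (j ''ᵁ (W ⊓ W')) (j u) hy
        ((j.appIso (W ⊓ W')).inv r' • resM M h1 (show Γ(M, j ''ᵁ W) from t)) ∈ A
      rw [QCohLoc.germ_smul' M, germ_res']
      exact A.smul_mem _ ht

/-- The restriction of `extZeroUnit` is the structure module. -/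
noncomputable def restrictExtZeroUnitIso :
    (Scheme.Modules.restrictFunctor j).obj (CxOX.extZeroUnit j) ≅ Coh.structureModule U :=
  (Scheme.Modules.restrictFunctor j).mapIso
      (((CxOX.extZeroAdj j).leftAdjointUniq (DCat.JShriek.shriekAdj j)).app _) ≪≫
    (asIso ((DCat.JShriek.shriekAdj j).unit.app (Coh.structureModule U))).symm

theorem isZero_stalk_extZeroUnit (x : X) (hx : x ∉ j.opensRange) :
    IsZero ((DerSch.stalkFunctor X x).obj (CxOX.extZeroUnit j)) :=
  (DCat.JShriek.isZero_stalk_shriek j (Coh.structureModule U) x hx).of_iso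
    ((DerSch.stalkFunctor X x).mapIso (((CxOX.extZeroAdj j).leftAdjointUniq (DCat.JShriek.shriekAdj j)).app _))

/-- Ascending chains of subobjects of `j_! O_U` stabilise when `U` is Noetherian. -/
theorem subobject_chain_stabilises [IsNoetherian U] (c : ℕ →o Subobject (CxOX.extZeroUnit j)) :
    ∃ n : ℕ, ∀ m : ℕ, n ≤ m → c n = c m := by
  classical
  let E := CxOX.extZeroUnit j
  let J : ULift.{u} ℕ → X.Modules := fun i => (c i.down : X.Modules)
  let q₀ : (∐ J) ⟶ E := Sigma.desc fun i => (c i.down).arrow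
  let R := Scheme.Modules.restrictFunctor j
  haveI : Mono (R.map (image.ι q₀) ≫ (restrictExtZeroUnitIso j).hom) := inferInstance
  obtain ⟨S, hSf, hS⟩ := exists_genAt_univ (isCoh_structureModule U)
    (R.map (image.ι q₀) ≫ (restrictExtZeroUnitIso j).hom)
  have hcpt : ∀ W : U.Opens, IsCompact ((j ''ᵁ W : X.Opens) : Set X) := fun W =>
    (NoetherianSpace.isCompact (W : Set U)).image j.continuous
  choose T hT using fun p : Σ W : U.Opens, (Γ(R.obj (Limits.image q₀), W) : Type u) =>
    exists_part_range J (factorThruImage q₀) (hcpt p.1) (show Γ(Limits.image q₀, j ''ᵁ p.1) from p.2)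
  let N := (hSf.toFinset.biUnion T).sup fun i => i.down
  refine ⟨N, fun m hm => le_antisymm (c.mono hm) ?_⟩
  have hle : c N ≤ c m := c.mono hm
  haveI hiso : IsIso (Subobject.ofLE _ _ hle) := by
    refine ModStalk.isIso_of_stalks _ fun y => ?_
    haveI : Mono ((DerSch.stalkFunctor X y).map (Subobject.ofLE _ _ hle)) := inferInstance
    refine (ConcreteCategory.isIso_iff_bijective _).2
      ⟨(ModuleCat.mono_iff_injective ((DerSch.stalkFunctor X y).map (Subobject.ofLE _ _ hle))).1 inferInstance,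
        fun v => ?_⟩
    by_cases hy : y ∈ j.opensRange
    swap
    · haveI := ModuleCat.subsingleton_of_isZero
        (IsZero.of_mono ((DerSch.stalkFunctor X y).map (c m).arrow) (isZero_stalk_extZeroUnit j y hy))
      exact ⟨0, Subsingleton.elim _ _⟩
    obtain ⟨u, rfl⟩ := hy
    let A := LinearMap.range ((DerSch.stalkFunctor X (j u)).map (c N).arrow).hom
    let A' := A.comap ((DerSch.stalkFunctor X (j u)).map (image.ι q₀)).hom
    -- every generator lies in `A'`
    have hgen : ∀ w ∈ germSet (R.obj (Limits.image q₀)) S u, RepIn j (Limits.image q₀) A' w := by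
      rintro _ ⟨p, hp, hu, rfl⟩
      refine ⟨p.1, hu, p.2, rfl, ?_⟩
      obtain ⟨z, hz⟩ := hT p (j u) ⟨u, hu, rfl⟩
      show (DerSch.stalkFunctor X (j u)).map (image.ι q₀)
        ((Limits.image q₀).presheaf.germ (j ''ᵁ p.1) (j u) ⟨u, hu, rfl⟩ p.2) ∈ A
      rw [← hz, stalk_comp_apply, Category.assoc, image.fac, part, Preadditive.sum_comp,
        Functor.map_sum]
      rw [hom_sum_apply]
      refine Submodule.sum_mem _ fun i hi => ?_
      have hiN : c i.down ≤ c N := c.mono (Finset.le_sup (f := fun i => i.down)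
        (Finset.mem_biUnion.2 ⟨p, hSf.mem_toFinset.2 hp, hi⟩))
      refine ⟨(DerSch.stalkFunctor X (j u)).map (Sigma.π J i ≫ Subobject.ofLE _ _ hiN) z, ?_⟩
      show (DerSch.stalkFunctor X (j u)).map (c N).arrow _ = _
      rw [stalk_comp_apply, Category.assoc, Subobject.ofLE_arrow]
      refine congrArg (fun f => (DerSch.stalkFunctor X (j u)).map f z) ?_
      rw [Category.assoc, Sigma.ι_desc]
      congr!
    -- so does the image of `c m`
    let e : (c m : X.Modules) ⟶ Limits.image q₀ := Limits.Sigma.ι J ⟨m⟩ ≫ factorThruImage q₀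
    have he : e ≫ image.ι q₀ = (c m).arrow := by
      rw [Category.assoc, image.fac, Sigma.ι_desc]
    obtain ⟨W₀, hW₀, s, hs⟩ := (Limits.image q₀).presheaf.exists_germ_eq (x := j u)
      ((DerSch.stalkFunctor X (j u)).map e v)
    let W : U.Opens := j ⁻¹ᵁ W₀
    let t : Γ(R.obj (Limits.image q₀), W) := resM (Limits.image q₀) (j.image_preimage_le W₀) s
    obtain ⟨W', hu', t', ht', htA⟩ := repIn_of_mem_span j (Limits.image q₀) A' hgen
      (show (R.obj (Limits.image q₀)).presheaf.germ W u hW₀ t ∈ _ by rw [hS u (Set.mem_univ u)]; trivial)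
    obtain ⟨W'', hu'', i, i', hii⟩ := (R.obj (Limits.image q₀)).presheaf.germ_eq u (U := W') (V := W) hu' hW₀ _ _ ht'
    have e1 : (Limits.image q₀).presheaf.germ (j ''ᵁ W') (j u) ⟨u, hu', rfl⟩ t' =
        (Limits.image q₀).presheaf.germ (j ''ᵁ W) (j u) ⟨u, hW₀, rfl⟩ t := by
      have hy : j u ∈ j ''ᵁ W'' := ⟨u, hu'', rfl⟩
      refine ((Limits.image q₀).presheaf.germ_res_apply (homOfLE (j.image_mono (leOfHom i))) (j u) hy t').symm.trans ?_
      refine Eq.trans ?_ ((Limits.image q₀).presheaf.germ_res_apply (homOfLE (j.image_mono (leOfHom i'))) (j u) hy t)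
      exact congrArg _ hii
    have hmem : (DerSch.stalkFunctor X (j u)).map (c m).arrow v ∈ A := by
      rw [← he, ← stalk_comp_apply, ← hs, ← (Limits.image q₀).presheaf.germ_res_apply
        (homOfLE (j.image_preimage_le W₀)) (j u) (show j u ∈ j ''ᵁ W from ⟨u, hW₀, rfl⟩) s]
      show (DerSch.stalkFunctor X (j u)).map (image.ι q₀)
        ((Limits.image q₀).presheaf.germ (j ''ᵁ W) (j u) _ t) ∈ A
      rw [← e1]
      exact htA
    obtain ⟨z, hz⟩ := hmem
    refine ⟨z, (ModuleCat.mono_iff_injective ((DerSch.stalkFunctor X (j u)).map (c m).arrow)).1 inferInstance ?_⟩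
    rw [stalk_comp_apply, Subobject.ofLE_arrow]
    exact hz
  exact Subobject.le_of_comm (inv (Subobject.ofLE _ _ hle)) (by rw [IsIso.inv_comp_eq, Subobject.ofLE_arrow])

end Groth.Agent.InjMod14
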