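import Groth.Agent.InjMod14.Generators
import Groth.Agent.Coherent.ProperFinite

/-!
# Direct sums of injective modules on locally Noetherian schemes
-/

set_option autoImplicit false
set_option backward.isDefEq.respectTransparency false
set_option maxHeartbeats 1000000

universe u

open CategoryTheory CategoryTheory.Limits AlgebraicGeometry Opposite TopologicalSpace
open Groth.Agent.Coherent Groth.Agent.PicLib Groth.Agent.ModStalk

namespace Groth.Agent.InjMod14

variable {X : Scheme.{u}} {κ : Type u} (J : κ → X.Modules)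

open Classical in
/-- The projector of a coproduct on finitely many summands. -/
noncomputable def part (T : Finset κ) : (∐ J) ⟶ ∐ J :=
  ∑ i ∈ T, Sigma.π J i ≫ Limits.Sigma.ι J i

theorem ι_part_of_mem (T : Finset κ) {i : κ} (hi : i ∈ T) :
    Limits.Sigma.ι J i ≫ part J T = Limits.Sigma.ι J i := by
  classical
  rw [part, Preadditive.comp_sum, Finset.sum_eq_single i
    (fun j _ hj => by rw [Sigma.ι_π_of_ne_assoc _ hj.symm, zero_comp]) (fun h => absurd hi h)]
  rw [Sigma.ι_π_eq_id_assoc]

theorem part_comp_part {T T' : Finset κ} (h : T ⊆ T') : part J T ≫ part J T' = part J T := by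
  conv_lhs => arg 1; rw [part]
  rw [Preadditive.sum_comp]
  refine (Finset.sum_congr rfl fun i hi => ?_).trans rfl
  rw [Category.assoc, ι_part_of_mem J T' (h hi)]

theorem exists_part_fix_stalk (x : X) (z : (DerSch.stalkFunctor X x).obj (∐ J)) :
    ∃ T : Finset κ, (DerSch.stalkFunctor X x).map (part J T) z = z := by
  classical
  let S := DerSch.stalkFunctor X x
  have hmono : ∀ {T T' : Finset κ}, T ⊆ T' → ∀ v, S.map (part J T) v = v → S.map (part J T') v = v := by
    intro T T' h v hv
    calc S.map (part J T') v = S.map (part J T') (S.map (part J T) v) := by rw [hv]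
      _ = S.map (part J T) v := by rw [stalk_comp_apply, part_comp_part J h]
      _ = v := hv
  let P : Submodule (X.presheaf.stalk x) (S.obj (∐ J)) :=
    { carrier := {v | ∃ T : Finset κ, S.map (part J T) v = v}
      zero_mem' := ⟨∅, map_zero _⟩
      add_mem' := by
        rintro a b ⟨T, hT⟩ ⟨T', hT'⟩
        exact ⟨T ∪ T', by rw [map_add, hmono Finset.subset_union_left a hT, hmono Finset.subset_union_right b hT']⟩
      smul_mem' := by
        rintro c a ⟨T, hT⟩
        exact ⟨T, ((S.map (part J T)).hom.map_smul c a).trans (congrArg (c • ·) hT)⟩ }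
  let q : S.obj (∐ J) ⟶ ModuleCat.of (X.presheaf.stalk x) (↑(S.obj (∐ J)) ⧸ P) := ModuleCat.ofHom P.mkQ
  have hq : q = 0 := by
    apply ((stalkAdj x).homEquiv _ _).injective
    refine Sigma.hom_ext _ _ fun i => ?_
    rw [← Adjunction.homEquiv_naturality_left, ← Adjunction.homEquiv_naturality_left, comp_zero]
    refine congrArg _ (ModuleCat.hom_ext (LinearMap.ext fun w => ?_))
    refine (Submodule.Quotient.mk_eq_zero P).2 ⟨{i}, ?_⟩
    show S.map (part J {i}) (S.map (Limits.Sigma.ι J i) w) = S.map (Limits.Sigma.ι J i) w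
    rw [stalk_comp_apply, ι_part_of_mem J _ (Finset.mem_singleton_self i)]
  exact (Submodule.Quotient.mk_eq_zero P).1 (congrArg (fun f => f.hom z) hq)

/-- A section over a quasi-compact open of a quotient of a coproduct comes, stalkwise, from finitely many
summands. -/
theorem exists_part_range {M : X.Modules} (q : (∐ J) ⟶ M) [Epi q] {U : X.Opens}
    (hU : IsCompact (U : Set X)) (s : Γ(M, U)) :
    ∃ T : Finset κ, ∀ (y : X) (hy : y ∈ U), ∃ z, (DerSch.stalkFunctor X y).map (part J T ≫ q) z =
      M.presheaf.germ U y hy s := by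
  classical
  have loc : ∀ y : (U : Set X), ∃ (W : X.Opens) (T : Finset κ), y.1 ∈ W ∧ W ≤ U ∧
      ∀ (y' : X) (hy' : y' ∈ W) (hy'U : y' ∈ U), ∃ z, (DerSch.stalkFunctor X y').map (part J T ≫ q) z =
        M.presheaf.germ U y' hy'U s := by
    rintro ⟨y, hy⟩
    obtain ⟨z, hz⟩ := (ModuleCat.epi_iff_surjective ((DerSch.stalkFunctor X y).map q)).1 inferInstance
      (M.presheaf.germ U y hy s)
    obtain ⟨T, hT⟩ := exists_part_fix_stalk J y z
    obtain ⟨W₁, hyW₁, b, rfl⟩ := (∐ J).presheaf.exists_germ_eq (x := y) z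
    have e : M.presheaf.germ W₁ y hyW₁ ((part J T ≫ q).app W₁ b) = M.presheaf.germ U y hy s := by
      rw [← hz, ← stalk_map_germ, ← stalk_comp_apply, hT]
    obtain ⟨W, hyW, i, i', he⟩ := M.presheaf.germ_eq y (U := W₁) (V := U) hyW₁ hy _ _ e
    refine ⟨W, T, hyW, leOfHom i', fun y' hy' hy'U => ⟨(∐ J).presheaf.germ W₁ y' (leOfHom i hy') b, ?_⟩⟩
    refine (stalk_map_germ (part J T ≫ q) (leOfHom i hy') b).trans ?_
    rw [← M.presheaf.germ_res_apply i y' hy', he, M.presheaf.germ_res_apply]
  choose W T hyW hWU hW using loc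
  obtain ⟨t, ht⟩ := hU.elim_finite_subcover (fun y => (W y : Set X)) (fun y => (W y).isOpen)
    fun y hy => Set.mem_iUnion.2 ⟨⟨y, hy⟩, hyW _⟩
  refine ⟨t.biUnion T, fun y hy => ?_⟩
  obtain ⟨y₀, hy₀, hyW₀⟩ := Set.mem_iUnion₂.1 (ht hy)
  obtain ⟨z, hz⟩ := hW y₀ y hyW₀ hy
  refine ⟨(DerSch.stalkFunctor X y).map (part J (T y₀)) z, ?_⟩
  rw [stalk_comp_apply, ← Category.assoc, part_comp_part J (Finset.subset_biUnion_of_mem T hy₀)]
  exact hz

/-- On a Noetherian scheme a map from an ideal sheaf to a sum of injectives extends. -/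
theorem exists_extend_sigma [IsNoetherian X] (hJ : ∀ i, Injective (J i)) {G : X.Modules}
    (m : G ⟶ Coh.structureModule X) [Mono m] (φ : G ⟶ ∐ J) :
    ∃ ψ : Coh.structureModule X ⟶ ∐ J, m ≫ ψ = φ := by
  classical
  obtain ⟨S, hSf, hS⟩ := exists_genAt_univ (isCoh_structureModule X) m
  choose T hT using fun p : Σ U : X.Opens, (Γ(G, U) : Type u) =>
    exists_part_range J (𝟙 (∐ J)) (U := p.1) (NoetherianSpace.isCompact _) (φ.app p.1 p.2)
  let T₀ := hSf.toFinset.biUnion T
  have hφ : φ ≫ part J T₀ = φ := by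
    refine hom_ext_stalks fun y => ModuleCat.hom_ext (LinearMap.ext_on (hS y (Set.mem_univ y)) ?_)
    rintro _ ⟨p, hp, hy, rfl⟩
    obtain ⟨z, hz⟩ := hT p y hy
    show (DerSch.stalkFunctor X y).map (φ ≫ part J T₀) (G.presheaf.germ p.1 y hy p.2) =
      (DerSch.stalkFunctor X y).map φ (G.presheaf.germ p.1 y hy p.2)
    rw [← stalk_comp_apply, stalk_map_germ, ← hz, Category.comp_id, stalk_comp_apply,
      part_comp_part J (Finset.subset_biUnion_of_mem T (hSf.mem_toFinset.2 hp))]
  haveI : ∀ i, Injective (J i) := hJ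
  choose ψ hψ using fun i => Injective.factors (J := J i) (φ ≫ Sigma.π J i) m
  refine ⟨∑ i ∈ T₀, ψ i ≫ Limits.Sigma.ι J i, ?_⟩
  rw [Preadditive.comp_sum, ← hφ, part, Preadditive.comp_sum]
  exact Finset.sum_congr rfl fun i _ => by rw [← Category.assoc, hψ i, Category.assoc]

/-- Direct sums of injective modules on a locally Noetherian scheme are injective. -/
theorem injective_sigma [IsLocallyNoetherian X] (hJ : ∀ i, Injective (J i)) : Injective (∐ J) := by
  refine injective_of_extend_restrict X.affineOpens X.isBasis_affineOpens _ fun V hV {G} m _ φ => ?_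
  haveI : IsAffine V.toScheme := hV
  haveI : CompactSpace V.toScheme := inferInstance
  haveI : IsNoetherian V.toScheme := {}
  let R := Scheme.Modules.restrictFunctor V.ι
  haveI : R.IsLeftAdjoint := (Scheme.Modules.restrictAdjunction V.ι).isLeftAdjoint
  let e : R.obj (∐ J) ≅ ∐ fun i => R.obj (J i) := (asIso (sigmaComparison R J)).symm
  obtain ⟨ψ, hψ⟩ := exists_extend_sigma (fun i => R.obj (J i))
    (fun i => haveI := hJ i; injective_restrict V.ι (J i)) m (φ ≫ e.hom)
  exact ⟨ψ ≫ e.inv, by rw [← Category.assoc, hψ, Category.assoc, e.hom_inv_id]; exact Category.comp_id φ⟩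

end Groth.Agent.InjMod14
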