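import Groth.Agent.InjMod14.Hull
import Groth.Agent.InjMod14.Sums
import Groth.Agent.InjMod14.Noetherian
import Groth.Agent.ARLib.GrAux

/-!
# Injective modules on locally Noetherian schemes are coproducts of indecomposable ones
-/

set_option autoImplicit false
set_option linter.style.haveILetI false
set_option backward.defeqAttrib.useBackward true
set_option backward.isDefEq.respectTransparency false
set_option maxHeartbeats 800000

universe w v u

open CategoryTheory CategoryTheory.Limits AlgebraicGeometry TopologicalSpace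

namespace Groth.Agent.InjMod14

section Abelian

variable {C : Type u} [Category.{v} C] [Abelian C]

/-- Two nonzero subobjects always meet. -/
def IsUniformObj (P : C) : Prop := ∀ A B : Subobject P, A ⊓ B = ⊥ → A = ⊥ ∨ B = ⊥

/-- The kernel of a composite with a mono target pair. -/
theorem kernelSubobject_eq_bot_iff {P Z : C} (f : P ⟶ Z) : kernelSubobject f = ⊥ ↔ Mono f := by
  constructor
  · intro h
    refine Preadditive.mono_of_cancel_zero _ fun {T} t ht => ?_
    have := factorThruKernelSubobject_comp_arrow f t ht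
    rw [← this]
    have h0 : (kernelSubobject f).arrow = 0 := by
      rw [← Subobject.ofLE_arrow (le_of_eq h), Subobject.bot_arrow, comp_zero]
    rw [h0, comp_zero]
  · intro h
    refine (Subobject.mk_eq_bot_iff_zero).2 (zero_of_comp_mono f (kernel.condition f))

/-- An essential extension of a uniform object has no nontrivial decomposition. -/
theorem isZero_or_isZero_of_uniform {P E A B : C} (e : P ⟶ E) [Mono e] (he : IsEssentialMap e)
    (hP : IsUniformObj P) (i : E ≅ A ⊞ B) : IsZero A ∨ IsZero B := by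
  let p := i.hom ≫ biprod.fst
  let q := i.hom ≫ biprod.snd
  have hb : kernelSubobject (e ≫ p) ⊓ kernelSubobject (e ≫ q) = ⊥ := by
    let S := kernelSubobject (e ≫ p) ⊓ kernelSubobject (e ≫ q)
    rw [← Subobject.mk_arrow (kernelSubobject (e ≫ p) ⊓ kernelSubobject (e ≫ q))]
    refine (Subobject.mk_eq_bot_iff_zero).2 ?_
    show S.arrow = 0
    refine zero_of_comp_mono e ?_
    rw [← cancel_mono i.hom, zero_comp]
    apply biprod.hom_ext
    · rw [zero_comp, ← Subobject.ofLE_arrow (show S ≤ kernelSubobject (e ≫ p) from inf_le_left)]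
      simp only [Category.assoc]
      rw [show (kernelSubobject (e ≫ p)).arrow ≫ e ≫ i.hom ≫ biprod.fst = 0 from
        kernelSubobject_arrow_comp (e ≫ p), comp_zero]
    · rw [zero_comp, ← Subobject.ofLE_arrow (show S ≤ kernelSubobject (e ≫ q) from inf_le_right)]
      simp only [Category.assoc]
      rw [show (kernelSubobject (e ≫ q)).arrow ≫ e ≫ i.hom ≫ biprod.snd = 0 from
        kernelSubobject_arrow_comp (e ≫ q), comp_zero]
  rcases hP _ _ hb with h | h
  · haveI := he p ((kernelSubobject_eq_bot_iff _).1 h)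
    right
    rw [IsZero.iff_id_eq_zero]
    have h0 : (biprod.inr : B ⟶ A ⊞ B) ≫ i.inv = 0 := zero_of_comp_mono p (by simp [p])
    have h1 := congrArg (fun f => f ≫ q) h0
    simpa [q] using h1
  · haveI := he q ((kernelSubobject_eq_bot_iff _).1 h)
    left
    rw [IsZero.iff_id_eq_zero]
    have h0 : (biprod.inl : A ⟶ A ⊞ B) ≫ i.inv = 0 := zero_of_comp_mono q (by simp [q])
    have h1 := congrArg (fun f => f ≫ p) h0
    simpa [p] using h1

/-- A nonzero object with the ascending chain condition contains a nonzero uniform subobject. -/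
theorem exists_uniform_sub {Q : C} [WellFoundedGT (Subobject Q)] (hQ : ¬ IsZero Q) :
    ∃ (P : C) (i : P ⟶ Q), Mono i ∧ ¬ IsZero P ∧ IsUniformObj P := by
  have htop : (⊤ : Subobject Q) ≠ ⊥ := fun h => hQ <| by
    rw [IsZero.iff_id_eq_zero, ← Subobject.mk_eq_bot_iff_zero, ← Subobject.top_eq_id, h]
  obtain ⟨S, ⟨T, hT, hST⟩, hmax⟩ := (wellFounded_gt (α := Subobject Q)).has_min
    {S | ∃ T : Subobject Q, T ≠ ⊥ ∧ S ⊓ T = ⊥} ⟨⊥, ⊤, htop, bot_inf_eq _⟩
  refine ⟨(T : C), T.arrow, inferInstance, fun h => hT ?_, fun A B hAB => ?_⟩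
  · rw [← Subobject.mk_arrow T]
    exact (Subobject.mk_eq_bot_iff_zero).2 (h.eq_of_src _ _)
  by_contra hne
  obtain ⟨hA, hB⟩ := not_or.1 hne
  let A' := (Subobject.map T.arrow).obj A
  let B' := (Subobject.map T.arrow).obj B
  have hbot : ∀ D : Subobject (T : C), (Subobject.map T.arrow).obj D = ⊥ → D = ⊥ := fun D hD => by
    refine Subobject.map_obj_injective T.arrow ?_
    rw [hD, Subobject.map_bot]
  have hA' : A' ≠ ⊥ := fun h => hA (hbot A h)
  have hB' : B' ≠ ⊥ := fun h => hB (hbot B h)
  have hAB' : A' ⊓ B' = ⊥ := by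
    show (Subobject.map T.arrow).obj A ⊓ (Subobject.map T.arrow).obj B = ⊥
    rw [← Subobject.inf_map, hAB, Subobject.map_bot]
  have hle : ∀ D : Subobject (T : C), (Subobject.map T.arrow).obj D ≤ T := fun D => by
    refine ((Subobject.map T.arrow).monotone le_top).trans_eq ?_
    rw [Subobject.map_top, Subobject.mk_arrow]
  have hSB : Disjoint S (A' ⊔ B') :=
    (disjoint_iff.2 hST).mono_right (sup_le (hle A) (hle B))
  refine hmax (S ⊔ A') ⟨B', hB', disjoint_iff.1 ((disjoint_iff.2 hAB').disjoint_sup_left_of_disjoint_sup_right hSB)⟩ ?_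
  refine lt_of_le_of_ne le_sup_left fun h => hA' ?_
  have h1 : A' ≤ S := h ▸ le_sup_right
  exact le_bot_iff.1 (hST ▸ le_inf h1 (hle A))

end Abelian

variable {X : Scheme.{u}} [IsLocallyNoetherian X]

/-- Injective, nonzero and indecomposable. -/
def IsIndecInjective (J : X.Modules) : Prop :=
  Injective J ∧ ¬ IsZero J ∧ ∀ A B : X.Modules, Nonempty (J ≅ A ⊞ B) → IsZero A ∨ IsZero B

/-- The subobjects of `j_! O_V` for an affine open `V` satisfy the ascending chain condition. -/
theorem wellFoundedGT_jO {V : X.Opens} (hV : IsAffineOpen V) : WellFoundedGT (Subobject (jO V)) := by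
  haveI : IsAffine V.toScheme := hV
  haveI : IsNoetherian V.toScheme := {}
  let e : CxOX.extZeroUnit V.ι ≅ jO V :=
    ((CxOX.extZeroAdj V.ι).leftAdjointUniq (DCat.JShriek.shriekAdj V.ι)).app (Coh.structureModule V.toScheme)
  refine wellFoundedGT_iff_monotone_chain_condition.2 fun c => ?_
  obtain ⟨n, hn⟩ := subobject_chain_stabilises V.ι
    ⟨fun i => (Subobject.map e.inv).obj (c i), fun a b h => (Subobject.map e.inv).monotone (c.monotone h)⟩
  exact ⟨n, fun m hm => Subobject.map_obj_injective e.inv (hn m hm)⟩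

/-- A nonzero injective module contains an indecomposable injective one. -/
theorem exists_indec_sub (I : X.Modules) [Injective I] (hI : ¬ IsZero I) :
    ∃ (J : X.Modules) (i : J ⟶ I), Mono i ∧ IsIndecInjective J := by
  haveI : IsGrothendieckAbelian.{u} X.Modules := DCat.schemeModules_isGrothendieckAbelian X
  obtain ⟨V, a, ha⟩ : ∃ (V : X.affineOpens) (a : jO V.1 ⟶ I), a ≠ 0 := by
    by_contra! h
    refine hI ((IsZero.iff_id_eq_zero _).2 (jO_separating X.affineOpens X.isBasis_affineOpens _ _ fun V a => ?_))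
    rw [h V a, zero_comp, zero_comp]
  haveI := wellFoundedGT_jO V.2
  have hQ : ¬ IsZero (Abelian.image a) := fun h => ha (by
    rw [← Abelian.image.fac a, h.eq_of_src (Abelian.image.ι a) 0, comp_zero])
  haveI : WellFoundedGT (Subobject (Abelian.image a)) := by
    refine StrictMono.wellFoundedGT (f := (Subobject.pullback (Abelian.factorThruImage a)).obj) ?_
    refine ((Subobject.pullback (Abelian.factorThruImage a)).monotone).strictMono_of_injective fun A B h => ?_
    have key : ∀ D : Subobject (Abelian.image a), ∀ D', (Subobject.pullback (Abelian.factorThruImage a)).obj D ≤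
        (Subobject.pullback (Abelian.factorThruImage a)).obj D' → D ≤ D' := fun D D' hle => by
      obtain ⟨T, p, hp, t, ht⟩ := surjective_up_to_refinements_of_epi (Abelian.factorThruImage a) D.arrow
      refine Subobject.le_of_comm (Abelian.monoLift D'.arrow D.arrow ?_) (Abelian.monoLift_comp _ _ _)
      rw [← cancel_epi p, comp_zero, ← Category.assoc, ht, Category.assoc]
      let l := (Subobject.isPullback (Abelian.factorThruImage a) D).lift p t ht
      rw [← (Subobject.isPullback (Abelian.factorThruImage a) D).lift_snd p t ht]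
      simp only [Category.assoc]
      erw [← reassoc_of% (Subobject.ofLE_arrow hle)]
      rw [← (Subobject.isPullback (Abelian.factorThruImage a) D').w_assoc, cokernel.condition]
      simp
    exact le_antisymm (key A B h.le) (key B A h.ge)
  obtain ⟨P, i, hi, hP0, hP⟩ := exists_uniform_sub hQ
  haveI := hi
  obtain ⟨E, e, he, hE, hess⟩ := exists_essential_injective (i ≫ Abelian.image.ι a)
  haveI := he
  let φ : E ⟶ I := Injective.factorThru (i ≫ Abelian.image.ι a) e
  haveI : Mono φ := hess φ (by rw [Injective.comp_factorThru]; infer_instance)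
  exact ⟨E, φ, inferInstance, hE, fun h => hP0 (IsZero.of_mono e h),
    fun A B ⟨w⟩ => isZero_or_isZero_of_uniform e hess hP w⟩

/-- The map from the coproduct of a set of subobjects. -/
noncomputable abbrev sumMap {I : X.Modules} {κ : Type u} (s : κ → Subobject I) : (∐ fun a => (s a : X.Modules)) ⟶ I :=
  Limits.Sigma.desc fun a => (s a).arrow

/-- Every injective module is a coproduct of indecomposable injective ones. -/
theorem exists_decomposition (I : X.Modules) [Injective I] :
    ∃ (κ : Type u) (J : κ → X.Modules), (∀ a, IsIndecInjective (J a)) ∧ Nonempty (I ≅ ∐ J) := by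
  classical
  haveI : IsGrothendieckAbelian.{u} X.Modules := DCat.schemeModules_isGrothendieckAbelian X
  let W := Shrink.{u} (Subobject I)
  let s : ∀ S : Set W, Idx S → Subobject I := fun S a => (equivShrink _).symm a.val.1
  let Good : Set (Set W) := {S | (∀ a, IsIndecInjective ((s S a : Subobject I) : X.Modules)) ∧ Mono (sumMap (s S))}
  have h0 : (∅ : Set W) ∈ Good := ⟨fun a => a.val.2.elim, Preadditive.mono_of_cancel_zero _ fun {T} t _ => by
    have hz : IsZero (∐ fun a => (s ∅ a : X.Modules)) :=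
      (IsZero.iff_id_eq_zero _).2 (Sigma.hom_ext _ _ fun a => a.val.2.elim)
    exact hz.eq_of_tgt _ _⟩
  obtain ⟨S, hS⟩ := zorn_subset Good fun c hcG hc => by
    rcases c.eq_empty_or_nonempty with rfl | hne
    · exact ⟨∅, h0, fun x hx => hx.elim⟩
    refine ⟨⋃₀ c, ⟨fun a => ?_, ?_⟩, fun x hx => Set.subset_sUnion_of_mem hx⟩
    · obtain ⟨x, hx, hax⟩ := a.val.2
      exact (hcG hx).1 ⟨⟨a.val.1, hax⟩⟩
    let J : Idx (⋃₀ c) → X.Modules := fun a => (s _ a : X.Modules)
    refine Preadditive.mono_of_kernel_zero (hom_ext_stalks fun y => ModuleCat.hom_ext (LinearMap.ext fun v => ?_))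
    rw [Functor.map_zero]
    let St := DerSch.stalkFunctor X y
    let z := St.map (kernel.ι (sumMap (s (⋃₀ c)))) v
    obtain ⟨T, hT⟩ := exists_part_fix_stalk J y z
    obtain ⟨x, hx, hTx⟩ : ∃ x ∈ c, ∀ a ∈ T, a.val.1 ∈ x := by
      obtain ⟨x, hx, hx'⟩ := hc.directedOn.exists_mem_subset_of_finset_subset_biUnion (f := fun x : Set W => x) hne
        (s := T.image fun a => a.val.1) (fun w hw => by
          obtain ⟨a, -, rfl⟩ := Finset.mem_image.1 (Finset.mem_coe.1 hw)
          obtain ⟨x, hx, hax⟩ := a.val.2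
          exact Set.mem_biUnion hx hax)
      exact ⟨x, hx, fun a ha => hx' (Finset.mem_coe.2 (Finset.mem_image_of_mem _ ha))⟩
    haveI := (hcG hx).2
    let r : (∐ J) ⟶ ∐ fun a => (s x a : X.Modules) :=
      ∑ a ∈ T.attach, Sigma.π J a.1 ≫ Limits.Sigma.ι (fun a => (s x a : X.Modules)) (⟨⟨a.1.val.1, hTx a.1 a.2⟩⟩ : Idx x)
    let cmp : (∐ fun a => (s x a : X.Modules)) ⟶ ∐ J :=
      Limits.Sigma.desc fun a => Limits.Sigma.ι J (⟨⟨a.val.1, Set.subset_sUnion_of_mem hx a.val.2⟩⟩ : Idx (⋃₀ c))
    have hrc : r ≫ cmp = part J T := by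
      simp only [r, cmp, part, Preadditive.sum_comp, Category.assoc, Sigma.ι_desc]
      exact Finset.sum_attach T fun a => Sigma.π J a ≫ Limits.Sigma.ι J a
    have hcd : cmp ≫ sumMap (s (⋃₀ c)) = sumMap (s x) := Sigma.hom_ext _ _ fun a => by
      simp only [cmp, Sigma.ι_desc_assoc, Sigma.ι_desc]
      rfl
    have hzr : St.map cmp (St.map r z) = z := by rw [Coherent.stalk_comp_apply, hrc]; exact hT
    have hk : St.map (sumMap (s (⋃₀ c))) z = 0 := by
      show St.map _ (St.map _ v) = 0
      rw [Coherent.stalk_comp_apply, kernel.condition, Functor.map_zero]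
      rfl
    have hr : St.map r z = 0 := by
      haveI : Mono (St.map (sumMap (s x))) := inferInstance
      refine (ModuleCat.mono_iff_injective (St.map (sumMap (s x)))).1 inferInstance ?_
      rw [map_zero, ← hcd, ← Coherent.stalk_comp_apply, hzr]
      exact hk
    show z = 0
    rw [← hzr, hr, map_zero]
  obtain ⟨⟨hSi, hSm⟩, hSmax⟩ := hS.1, hS.2
  let J : Idx S → X.Modules := fun a => (s S a : X.Modules)
  haveI := hSm
  haveI : Injective (∐ J) := injective_sigma J fun a => (hSi a).1
  refine ⟨Idx S, J, hSi, ?_⟩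
  let m : (∐ J) ⟶ I := sumMap (s S)
  let r : I ⟶ ∐ J := Injective.factorThru (𝟙 _) m
  have hmr : m ≫ r = 𝟙 _ := Injective.comp_factorThru _ _
  suffices hK : IsZero (kernel r) by
    haveI : Mono r := Preadditive.mono_of_isZero_kernel _ hK
    exact ⟨(asIso' r m hmr)⟩
  by_contra hK
  haveI : Injective (kernel r) :=
    ⟨fun f g _ => ⟨kernel.lift r (Injective.factorThru (f ≫ kernel.ι r) g ≫ (𝟙 I - r ≫ m)) (by
      simp only [Category.assoc, Preadditive.sub_comp, Category.id_comp, hmr, Category.comp_id, sub_self, comp_zero]), by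
      rw [← cancel_mono (kernel.ι r)]
      simp only [Category.assoc, kernel.lift_ι, Injective.comp_factorThru_assoc, Preadditive.comp_sub,
        Category.comp_id, kernel.condition_assoc, comp_zero, zero_comp, sub_zero, Injective.comp_factorThru]⟩⟩
  obtain ⟨P, p, hp, hP⟩ := exists_indec_sub (kernel r) hK
  haveI := hp
  let w : W := equivShrink _ (Subobject.mk (p ≫ kernel.ι r))
  have hw : ((equivShrink _).symm w : Subobject I).arrow ≫ r = 0 := by
    rw [show ((equivShrink _).symm w : Subobject I) = Subobject.mk (p ≫ kernel.ι r) from Equiv.symm_apply_apply _ _]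
    rw [← cancel_epi (Subobject.underlyingIso (p ≫ kernel.ι r)).inv, comp_zero, ← Category.assoc,
      Subobject.underlyingIso_arrow, Category.assoc, kernel.condition, comp_zero]
  have hind : IsIndecInjective (((equivShrink _).symm w : Subobject I) : X.Modules) := by
    let u := Subobject.underlyingIso (p ≫ kernel.ι r)
    rw [show ((equivShrink _).symm w : Subobject I) = Subobject.mk (p ≫ kernel.ι r) from Equiv.symm_apply_apply _ _]
    exact ⟨Injective.of_iso u.symm hP.1, fun h => hP.2.1 (h.of_iso u.symm), fun A B ⟨e⟩ => hP.2.2 A B ⟨u.symm ≪≫ e⟩⟩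
  have hwS : w ∉ S := fun hwS => by
    have h1 : Limits.Sigma.ι J (⟨⟨w, hwS⟩⟩ : Idx S) ≫ m = (s S ⟨⟨w, hwS⟩⟩).arrow := Sigma.ι_desc _ _
    have h2 : Limits.Sigma.ι J (⟨⟨w, hwS⟩⟩ : Idx S) = 0 := by
      rw [← Category.comp_id (Limits.Sigma.ι J _), ← hmr, ← Category.assoc, h1]
      exact hw
    refine hind.2.1 ((IsZero.iff_id_eq_zero _).2 ?_)
    have h3 := congrArg (fun f => f ≫ Sigma.π J (⟨⟨w, hwS⟩⟩ : Idx S)) h2
    rw [Sigma.ι_π_eq_id, zero_comp] at h3
    exact h3
  let S' := insert w S
  let J' : Idx S' → X.Modules := fun a => (s S' a : X.Modules)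
  let j₀ : Idx S' := ⟨⟨w, Set.mem_insert _ _⟩⟩
  have hgood : S' ∈ Good := by
    refine ⟨fun a => ?_, ?_⟩
    · obtain ⟨⟨b, hb | hb⟩⟩ := a
      · subst hb; exact hind
      · exact hSi ⟨⟨b, hb⟩⟩
    let emb : (∐ J) ⟶ ∐ J' :=
      Limits.Sigma.desc fun a => Limits.Sigma.ι J' (⟨⟨a.val.1, Set.mem_insert_of_mem _ a.val.2⟩⟩ : Idx S')
    let d := sumMap (s S')
    have hid : d ≫ r ≫ emb + Sigma.π J' j₀ ≫ Limits.Sigma.ι J' j₀ = 𝟙 (∐ J') := by
      refine Sigma.hom_ext _ _ fun a => ?_
      obtain ⟨⟨b, hb | hb⟩⟩ := a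
      · subst hb
        rw [Category.comp_id, Preadditive.comp_add, ← Category.assoc, ← Category.assoc,
          show Limits.Sigma.ι J' j₀ ≫ d = (s S' j₀).arrow from Sigma.ι_desc _ _, hw, zero_comp, zero_add,
          Sigma.ι_π_eq_id_assoc]
      · let a₀ : Idx S := ⟨⟨b, hb⟩⟩
        let a : Idx S' := ⟨⟨b, Or.inr hb⟩⟩
        have hne : a ≠ j₀ := fun h => hwS (by rw [show w = b from (congrArg (fun t : Idx S' => t.val.1) h).symm]; exact hb)
        have h1 : (Limits.Sigma.ι J a₀ ≫ m) ≫ r = Limits.Sigma.ι J a₀ := by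
          rw [Category.assoc, hmr, Category.comp_id]
        rw [show Limits.Sigma.ι J a₀ ≫ m = (s S a₀).arrow from Sigma.ι_desc _ _] at h1
        show Limits.Sigma.ι J' a ≫ _ = Limits.Sigma.ι J' a ≫ _
        rw [Category.comp_id, Preadditive.comp_add, Sigma.ι_π_of_ne_assoc _ hne, zero_comp, add_zero,
          ← Category.assoc, ← Category.assoc,
          show Limits.Sigma.ι J' a ≫ d = (s S' a).arrow from Sigma.ι_desc _ _]
        exact (congrArg (· ≫ emb) h1).trans (Sigma.ι_desc _ _)
    refine Preadditive.mono_of_cancel_zero _ fun {T} x hx => ?_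
    have h1 : x = x ≫ Sigma.π J' j₀ ≫ Limits.Sigma.ι J' j₀ := by
      conv_lhs => rw [← Category.comp_id x, ← hid]
      rw [Preadditive.comp_add, ← Category.assoc, show x ≫ d = 0 from hx, zero_comp, zero_add]
    have h2 : x ≫ Sigma.π J' j₀ = 0 := by
      refine zero_of_comp_mono (s S' j₀).arrow ?_
      rw [← show Limits.Sigma.ι J' j₀ ≫ d = (s S' j₀).arrow from Sigma.ι_desc _ _, ← Category.assoc,
        Category.assoc x, ← h1]
      exact hx
    rw [h1, ← Category.assoc, h2, zero_comp]
  exact hwS (hSmax hgood (Set.subset_insert _ _) (Set.mem_insert _ _))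
where
  /-- A split monomorphism retraction which is mono is an isomorphism. -/
  asIso' {A B : X.Modules} (r : B ⟶ A) (m : A ⟶ B) (h : m ≫ r = 𝟙 A) [Mono r] : B ≅ A :=
    { hom := r
      inv := m
      hom_inv_id := by rw [← cancel_mono r, Category.assoc, h, Category.comp_id, Category.id_comp]
      inv_hom_id := h }

end Groth.Agent.InjMod14
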