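import Groth.Agent.InjMod14.ExtShInjective
import Groth.Agent.Coherent.DevissageIdeal
import Groth.Agent.Coherent.ProperOverApps
import Groth.Agent.CAlgH3.SupportAffine
import Groth.Agent.LocCoh.DepthLocal
import Mathlib.RingTheory.Regular.Flat

/-!
# Depth and vanishing of sheaf `Ext`
-/

set_option autoImplicit false
set_option linter.style.haveILetI false
set_option backward.isDefEq.respectTransparency false
set_option backward.isDefEq.respectTransparency.types false
set_option maxHeartbeats 1000000

universe u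

open CategoryTheory CategoryTheory.Abelian CategoryTheory.Limits AlgebraicGeometry Opposite TopologicalSpace
open Groth.Agent.Coherent Groth.Agent.SerreDual
open scoped Pointwise

namespace Groth.Agent.InjMod14

section Algebra

variable {R : Type u} [CommRing R]

/-- No `Ext` into or out of the zero module. -/
theorem subsingleton_ext_of_subsingleton {N M : ModuleCat.{u} R} (h : Subsingleton N ∨ Subsingleton M) (i : ℕ) :
    Subsingleton (Ext N M i) := by
  refine subsingleton_of_forall_eq 0 fun z => ?_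
  rcases h with h | h
  · rw [← Ext.mk₀_id_comp z, show 𝟙 N = 0 from ModuleCat.hom_ext (LinearMap.ext fun a => Subsingleton.elim _ _),
      Ext.mk₀_zero, Ext.zero_comp]
  · rw [← Ext.comp_mk₀_id z, show 𝟙 M = 0 from ModuleCat.hom_ext (LinearMap.ext fun a => Subsingleton.elim _ _),
      Ext.mk₀_zero, Ext.comp_zero]

variable [IsLocalRing R] [IsNoetherianRing R] (N M : ModuleCat.{u} R) [Module.Finite R N] [Module.Finite R M]

/-- Vanishing of `Ext` below `n` out of a nonzero finite module gives depth at least `n`. -/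
theorem le_depth_of_ext [Nontrivial N] (n : ℕ) (h : ∀ i < n, Subsingleton (Ext N M i)) :
    (n : ℕ∞) ≤ _root_.LocCoh.depth R M := by
  by_cases hm : IsLocalRing.maximalIdeal R • (⊤ : Submodule R M) = ⊤
  · rw [_root_.LocCoh.depth, _root_.LocCoh.idealDepth, if_pos hm]
    exact le_top
  let I := Module.annihilator R N
  have hI : I ≤ IsLocalRing.maximalIdeal R := IsLocalRing.le_maximalIdeal fun he => by
    obtain ⟨a, ha⟩ := exists_ne (0 : N)
    exact ha ((one_smul R a).symm.trans (Module.mem_annihilator.1 (show (1 : R) ∈ I from he ▸ trivial) a))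
  have hlt : I • (⊤ : Submodule R M) < ⊤ :=
    (Submodule.smul_mono hI le_rfl).trans_lt (lt_top_iff_ne_top.2 hm)
  obtain ⟨rs, hlen, hmem, hreg⟩ := ModuleCat.exists_isRegular_of_exists_subsingleton_ext I n M hlt N
    Module.support_eq_zeroLocus h
  exact (LocCoh.natCast_le_idealDepth_iff_exists (IsLocalRing.maximalIdeal R) M hm n).2
    ⟨rs, hlen.ge, fun r hr => hI (hmem r hr), hreg⟩

/-- A regular sequence in the annihilator kills low `Ext`. -/
theorem subsingleton_ext_of_weaklyRegular (rs : List R) (hw : RingTheory.Sequence.IsWeaklyRegular M rs)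
    (hk : ∀ r ∈ rs, r ∈ Module.annihilator R N) (i : ℕ) (hi : i < rs.length) : Subsingleton (Ext N M i) := by
  rcases subsingleton_or_nontrivial N with hN | hN
  · exact subsingleton_ext_of_subsingleton (Or.inl hN) i
  rcases subsingleton_or_nontrivial M with hM | hM
  · exact subsingleton_ext_of_subsingleton (Or.inr hM) i
  let I := Module.annihilator R N
  have hI : I ≤ IsLocalRing.maximalIdeal R := IsLocalRing.le_maximalIdeal fun he => by
    obtain ⟨a, ha⟩ := exists_ne (0 : N)
    exact ha ((one_smul R a).symm.trans (Module.mem_annihilator.1 (show (1 : R) ∈ I from he ▸ trivial) a))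
  have hm : IsLocalRing.maximalIdeal R • (⊤ : Submodule R M) ≠ ⊤ := fun h => by
    have := Submodule.eq_bot_of_le_smul_of_le_jacobson_bot (IsLocalRing.maximalIdeal R) (⊤ : Submodule R M)
      (Module.Finite.fg_top) h.ge (IsLocalRing.maximalIdeal_le_jacobson _)
    exact top_ne_bot this
  have hlt : I • (⊤ : Submodule R M) < ⊤ :=
    (Submodule.smul_mono hI le_rfl).trans_lt (lt_top_iff_ne_top.2 hm)
  refine ModuleCat.subsingleton_ext_of_exists_isRegular I N Module.support_eq_zeroLocus.subset M hlt rs hk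
    ⟨hw, fun h => ?_⟩ i hi
  exact hlt.ne (top_le_iff.1 (h.le.trans (Submodule.smul_mono (Ideal.span_le.2 hk) le_rfl)))

end Algebra

variable {X : Scheme.{u}} [IsLocallyNoetherian X]

/-- Stalks of sheaf `Ext` on an affine chart. -/
theorem nonempty_stalk_homology_chart {G : X.Modules} (hG : Coh.IsCoh G) {F : X.Modules}
    (I : InjectiveResolution F) {U : X.Opens} (hU : IsAffineOpen U) (y : Scheme.Opens.toScheme U) (i : ℕ) :
    Nonempty ((((homCx G I).homology i).presheaf.stalk ((Scheme.Opens.ι U) y) : Type u) ≃+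
      Ext ((DerSch.stalkFunctor (Scheme.Opens.toScheme U) y).obj (G.restrict (Scheme.Opens.ι U)))
        ((DerSch.stalkFunctor (Scheme.Opens.toScheme U) y).obj (F.restrict (Scheme.Opens.ι U))) i) := by
  haveI : IsAffine (Scheme.Opens.toScheme U) := hU
  haveI : IsNoetherian (Scheme.Opens.toScheme U) := {}
  haveI := SerreDual.hasInjectiveResolutions_modules (Scheme.Opens.toScheme U)
  let I' := InjectiveResolution.of (F.restrict (Scheme.Opens.ι U))
  obtain ⟨w⟩ := nonempty_homology_restrict (Scheme.Opens.ι U) (F := G) I I' i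
  obtain ⟨eq⟩ := nonempty_stalk_homology_affine y I' i (Coherent.isCoh_restrict U hG)
  obtain ⟨φ, e, he, -, -⟩ := RefHullLib.exists_semilinear_restrict (Scheme.Opens.ι U) ((homCx G I).homology i) y
  exact ⟨e.trans (((DerSch.stalkFunctor (Scheme.Opens.toScheme U) y).mapIso w).toLinearEquiv.toAddEquiv.trans
    eq.toAddEquiv)⟩

/-- Transport of depth to an open subscheme. -/
theorem depth_restrict_eq (U : X.Opens) (F : X.Modules) (y : Scheme.Opens.toScheme U) :
    _root_.LocCoh.depth ((Scheme.Opens.toScheme U).presheaf.stalk y) ((F.restrict (Scheme.Opens.ι U)).presheaf.stalk y) =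
      _root_.LocCoh.depth (X.presheaf.stalk ((Scheme.Opens.ι U) y)) (F.presheaf.stalk ((Scheme.Opens.ι U) y)) := by
  obtain ⟨φ, e, he, -, -⟩ := RefHullLib.exists_semilinear_restrict (Scheme.Opens.ι U) F y
  letI : Algebra (X.presheaf.stalk ((Scheme.Opens.ι U) y)) ((Scheme.Opens.toScheme U).presheaf.stalk y) :=
    φ.toRingHom.toAlgebra
  let N := (F.restrict (Scheme.Opens.ι U)).presheaf.stalk y
  letI : Module (X.presheaf.stalk ((Scheme.Opens.ι U) y)) N := Module.compHom N φ.toRingHom
  haveI : IsScalarTower (X.presheaf.stalk ((Scheme.Opens.ι U) y)) ((Scheme.Opens.toScheme U).presheaf.stalk y) N :=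
    IsScalarTower.of_algebraMap_smul fun _ _ => rfl
  refine (CAlgH3.depth_of_surjective (R := X.presheaf.stalk ((Scheme.Opens.ι U) y))
    (S := (Scheme.Opens.toScheme U).presheaf.stalk y) φ.surjective N).trans ?_
  exact CAlgH3.depth_congr ({ e.symm with
    map_smul' := fun a v => e.injective (by
      show e (e.symm (φ a • v)) = e (a • e.symm v)
      rw [he]
      exact (e.apply_symm_apply _).trans (congrArg (φ a • ·) (e.apply_symm_apply v).symm)) } : N ≃ₗ[_] _)

/-- A coherent module with vanishing low sheaf `Ext` forces depth on its support. -/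
theorem le_depth_of_isZero_extSh {G F : X.Modules} (hG : Coh.IsCoh G) (hF : Coh.IsCoh F)
    (I : InjectiveResolution F) (n : ℕ) (h : ∀ i < n, IsZero ((homCx G I).homology i)) {x : X}
    (hx : x ∈ CohB1.support G) :
    (n : ℕ∞) ≤ _root_.LocCoh.depth (X.presheaf.stalk x) (F.presheaf.stalk x) := by
  obtain ⟨U, hU, hxU, -⟩ := Opens.isBasis_iff_nbhd.mp X.isBasis_affineOpens (Opens.mem_top x)
  let y : Scheme.Opens.toScheme U := ⟨x, hxU⟩
  haveI : IsNoetherian (Scheme.Opens.toScheme U) := by
    haveI : IsAffine (Scheme.Opens.toScheme U) := hU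
    exact {}
  let S := DerSch.stalkFunctor (Scheme.Opens.toScheme U) y
  have hGU := Coherent.isCoh_restrict U hG
  have hFU := Coherent.isCoh_restrict U hF
  haveI : Module.Finite _ (S.obj (G.restrict (Scheme.Opens.ι U))) := Coherent.finite_stalk_of_isFT hGU.1 hGU.2 y
  haveI : Module.Finite _ (S.obj (F.restrict (Scheme.Opens.ι U))) := Coherent.finite_stalk_of_isFT hFU.1 hFU.2 y
  obtain ⟨φ, e, he, -, -⟩ := RefHullLib.exists_semilinear_restrict (Scheme.Opens.ι U) G y
  haveI : Nontrivial (S.obj (G.restrict (Scheme.Opens.ι U))) :=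
    haveI : Nontrivial (G.presheaf.stalk ((Scheme.Opens.ι U) y))   := not_subsingleton_iff_nontrivial.1 hx
    e.injective.nontrivial
  refine (le_depth_of_ext (S.obj (G.restrict (Scheme.Opens.ι U))) (S.obj (F.restrict (Scheme.Opens.ι U))) n
    fun i hi => ?_).trans (depth_restrict_eq U F y).le
  obtain ⟨q⟩ := nonempty_stalk_homology_chart hG I hU y i
  haveI : Subsingleton (((homCx G I).homology i).presheaf.stalk ((Scheme.Opens.ι U) y)) :=
    ModuleCat.subsingleton_of_isZero ((DerSch.stalkFunctor X ((Scheme.Opens.ι U) y)).map_isZero (h i hi))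
  exact q.symm.toEquiv.subsingleton

/-- Depth on the support makes low sheaf `Ext` vanish. -/
theorem isZero_extSh_of_le_depth {G F : X.Modules} (hG : Coh.IsCoh G) (hF : Coh.IsCoh F)
    (I : InjectiveResolution F) (n : ℕ)
    (h : ∀ x ∈ CohB1.support G, (n : ℕ∞) ≤ _root_.LocCoh.depth (X.presheaf.stalk x) (F.presheaf.stalk x))
    (i : ℕ) (hi : i < n) : IsZero ((homCx G I).homology i) := by
  refine ModStalk.isZero_of_stalks fun x => ?_
  obtain ⟨U, hU, hxU, -⟩ := Opens.isBasis_iff_nbhd.mp X.isBasis_affineOpens (Opens.mem_top x)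
  let y : Scheme.Opens.toScheme U := ⟨x, hxU⟩
  haveI : IsAffine (Scheme.Opens.toScheme U) := hU
  haveI : IsNoetherian (Scheme.Opens.toScheme U) := {}
  let Z := Scheme.Opens.toScheme U
  let j := Scheme.Opens.ι U
  let S := DerSch.stalkFunctor Z y
  have hGU := Coherent.isCoh_restrict U hG
  have hFU := Coherent.isCoh_restrict U hF
  haveI : Coh.IsQCoh (G.restrict j) := hGU.1
  haveI : Coh.IsQCoh (F.restrict j) := hFU.1
  haveI : Module.Finite _ (S.obj (G.restrict j)) := Coherent.finite_stalk_of_isFT hGU.1 hGU.2 y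
  haveI : Module.Finite _ (S.obj (F.restrict j)) := Coherent.finite_stalk_of_isFT hFU.1 hFU.2 y
  suffices Subsingleton (Ext (S.obj (G.restrict j)) (S.obj (F.restrict j)) i) by
    obtain ⟨q⟩ := nonempty_stalk_homology_chart hG I hU y i
    haveI : Subsingleton (((homCx G I).homology i).presheaf.stalk x) := q.toEquiv.subsingleton
    exact @ModuleCat.isZero_of_subsingleton _ _ _ this
  rcases subsingleton_or_nontrivial (S.obj (G.restrict j)) with hN | hN
  · exact subsingleton_ext_of_subsingleton (Or.inl hN) i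
  rcases subsingleton_or_nontrivial (S.obj (F.restrict j)) with hM | hM
  · exact subsingleton_ext_of_subsingleton (Or.inr hM) i
  have hW : IsAffineOpen (⊤ : Z.Opens) := isAffineOpen_top Z
  haveI : IsNoetherianRing Γ(Z, ⊤) := IsLocallyNoetherian.component_noetherian ⟨⊤, hW⟩
  let N := Γ(G.restrict j, ⊤)
  let M := Γ(F.restrict j, ⊤)
  haveI : Module.Finite Γ(Z, ⊤) N := ((Coherent.isCoh_iff_finite_sections _).1 hGU).2 ⊤ hW
  haveI : Module.Finite Γ(Z, ⊤) M := ((Coherent.isCoh_iff_finite_sections _).1 hFU).2 ⊤ hW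
  let J := Module.annihilator Γ(Z, ⊤) N
  let gN : ∀ z : Z, N →+ (G.restrict j).presheaf.stalk z := fun z =>
    ((G.restrict j).presheaf.germ ⊤ z trivial).hom
  have hgen : ∀ (z : Z) (M' : Z.Modules) [Coh.IsQCoh M'] (v : M'.presheaf.stalk z) (r : Γ(Z, ⊤)),
      (∀ a : Γ(M', ⊤), r • a = 0) → Z.presheaf.germ ⊤ z trivial r • v = 0 := fun z M' _ v r hr => by
    letI := (Z.presheaf.germ ⊤ z trivial).hom.toAlgebra
    letI := Module.compHom (M'.presheaf.stalk z) (Z.presheaf.germ ⊤ z trivial).hom
    haveI : IsScalarTower Γ(Z, ⊤) (Z.presheaf.stalk z) (M'.presheaf.stalk z) :=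
      IsScalarTower.of_algebraMap_smul fun _ _ => rfl
    let g : Γ(M', ⊤) →ₗ[Γ(Z, ⊤)] M'.presheaf.stalk z :=
      { toFun := fun a => M'.presheaf.germ ⊤ z trivial a
        map_add' := fun a b => map_add _ a b
        map_smul' := fun r a => QCohLoc.germ_smul' M' _ r a }
    haveI := EGA43.QcohFP.isLocalizedModule_germ M' hW trivial g fun _ => rfl
    obtain ⟨⟨a, c⟩, hac⟩ := IsLocalizedModule.surj (hW.primeIdealOf ⟨z, trivial⟩).asIdeal.primeCompl g v
    refine ((Module.End.isUnit_iff _).1 (IsLocalizedModule.map_units g c)).1 ?_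
    show c.1 • r • v = c.1 • 0
    have hac' : c.1 • v = g a := hac
    rw [smul_comm, hac', ← map_smul, hr, map_zero, smul_zero]
  letI := (Z.presheaf.germ ⊤ y trivial).hom.toAlgebra
  letI := Module.compHom ((F.restrict j).presheaf.stalk y) (Z.presheaf.germ ⊤ y trivial).hom
  haveI : IsScalarTower Γ(Z, ⊤) (Z.presheaf.stalk y) ((F.restrict j).presheaf.stalk y) :=
    IsScalarTower.of_algebraMap_smul fun _ _ => rfl
  let gM : M →ₗ[Γ(Z, ⊤)] (F.restrict j).presheaf.stalk y :=
    { toFun := fun a => (F.restrict j).presheaf.germ ⊤ y trivial a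
      map_add' := fun a b => map_add _ a b
      map_smul' := fun r a => QCohLoc.germ_smul' (F.restrict j) _ r a }
  haveI := EGA43.QcohFP.isLocalizedModule_germ (F.restrict j) hW trivial gM fun _ => rfl
  haveI : IsLocalization.AtPrime (Z.presheaf.stalk y) (hW.primeIdealOf ⟨y, trivial⟩).asIdeal :=
    hW.isLocalization_stalk ⟨y, trivial⟩
  have hJunit : ∀ r ∈ J, ¬ IsUnit (Z.presheaf.germ ⊤ y trivial r) := fun r hr hu => by
    obtain ⟨v, hv⟩ := exists_ne (0 : S.obj (G.restrict j))
    exact hv (hu.smul_eq_zero.1 (hgen y (G.restrict j) v r (Module.mem_annihilator.1 hr)))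
  have hd : (n : ℕ∞) ≤ _root_.LocCoh.idealDepth J M := by
    refine (LocCoh.natCast_le_idealDepth_iff_local J M n).2 fun p hp => ?_
    let z : Z := hW.fromSpec p
    have e : hW.primeIdealOf ⟨z, trivial⟩ = p :=
      hW.fromSpec.isOpenEmbedding.injective (hW.fromSpec_primeIdealOf _)
    have hz : Nontrivial ((G.restrict j).presheaf.stalk z) := by
      by_contra hz
      rw [not_nontrivial_iff_subsingleton] at hz
      letI := (Z.presheaf.germ ⊤ z trivial).hom.toAlgebra
      letI := Module.compHom ((G.restrict j).presheaf.stalk z) (Z.presheaf.germ ⊤ z trivial).hom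
      let g : N →ₗ[Γ(Z, ⊤)] (G.restrict j).presheaf.stalk z :=
        { toFun := fun a => (G.restrict j).presheaf.germ ⊤ z trivial a
          map_add' := fun a b => map_add _ a b
          map_smul' := fun r a => QCohLoc.germ_smul' (G.restrict j) _ r a }
      haveI := EGA43.QcohFP.isLocalizedModule_germ (G.restrict j) hW trivial g fun _ => rfl
      obtain ⟨t, ht⟩ := Module.Finite.fg_top (R := Γ(Z, ⊤)) (M := N)
      choose c hc using fun a : N => IsLocalizedModule.exists_of_eq
        (S := (hW.primeIdealOf ⟨z, trivial⟩).asIdeal.primeCompl) (f := g) (x₁ := a) (x₂ := 0) (Subsingleton.elim _ _)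
      have hprod : (∏ a ∈ t, (c a).1) ∈ J := by
        refine Module.mem_annihilator.2 fun a => ?_
        have : a ∈ Submodule.span Γ(Z, ⊤) (t : Set N) := ht ▸ trivial
        induction this using Submodule.span_induction with
        | mem a ha =>
          obtain ⟨d, hd⟩ := Finset.dvd_prod_of_mem (fun a => (c a).1) ha
          rw [hd, mul_comm, mul_smul]
          exact (congrArg (d • ·) ((hc a).trans (smul_zero _))).trans (smul_zero d)
        | zero => exact smul_zero _
        | add a b _ _ ha hb => rw [smul_add, ha, hb, add_zero]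
        | smul r a _ ha => rw [smul_comm, ha, smul_zero]
      exact (hW.primeIdealOf ⟨z, trivial⟩).asIdeal.primeCompl.prod_mem (fun a _ => (c a).2) (e.symm ▸ hp hprod)
    have hzx : (j z) ∈ CohB1.support G := by
      obtain ⟨φ, e, -, -, -⟩ := RefHullLib.exists_semilinear_restrict j G z
      exact fun h => not_subsingleton _ (e.symm.toEquiv.subsingleton (α := (G.restrict j).presheaf.stalk z))
    have h1 := (h (j z) hzx).trans (depth_restrict_eq U F z).ge
    rw [← CAlgH3.SupportAffine.depth_stalk (F.restrict j) hW z trivial, e] at h1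
    exact h1
  by_cases hJ : J • (⊤ : Submodule Γ(Z, ⊤) M) = ⊤
  · exfalso
    obtain ⟨r, hr1, hr⟩ := Submodule.exists_sub_one_mem_and_smul_eq_zero_of_fg_of_le_smul J
      (⊤ : Submodule Γ(Z, ⊤) M) Module.Finite.fg_top hJ.ge
    obtain ⟨v, hv⟩ := exists_ne (0 : S.obj (F.restrict j))
    refine hv (IsUnit.smul_eq_zero ?_ |>.1 (hgen y (F.restrict j) v r fun a => hr a trivial))
    have h2 := hJunit _ hr1
    rw [map_sub, map_one] at h2
    refine (IsLocalRing.isUnit_or_isUnit_of_add_one (a := Z.presheaf.germ ⊤ y trivial r)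
      (b := -(Z.presheaf.germ ⊤ y trivial r - 1)) (by ring)).resolve_right fun hu => h2 ?_
    exact (IsUnit.neg_iff _).1 hu
  obtain ⟨rs, hle, hmem, hreg⟩ := (LocCoh.natCast_le_idealDepth_iff_exists J M hJ n).1 hd
  refine subsingleton_ext_of_weaklyRegular (S.obj (G.restrict j)) (S.obj (F.restrict j))
    (rs.map (algebraMap Γ(Z, ⊤) (Z.presheaf.stalk y)))
    (hreg.toIsWeaklyRegular.of_isLocalizedModule (Z.presheaf.stalk y) (hW.primeIdealOf ⟨y, trivial⟩).asIdeal.primeCompl gM) (fun r hr => ?_) i
    (by rw [List.length_map]; omega)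
  obtain ⟨a, ha, rfl⟩ := List.mem_map.1 hr
  exact Module.mem_annihilator.2 fun v => hgen y (G.restrict j) v a (Module.mem_annihilator.1 (hmem a ha))

omit [IsLocallyNoetherian X] in
/-- The structure sheaf of the closure of a point is nonzero at that point. -/
theorem mem_support_clM (y : X) : y ∈ CohB1.support (AssSch12.clM y) := by
  intro hs
  obtain ⟨V, hV, hyV, -⟩ := Opens.isBasis_iff_nbhd.mp X.isBasis_affineOpens (Opens.mem_top y)
  letI := (X.presheaf.germ V y hyV).hom.toAlgebra
  letI := Module.compHom ((AssSch12.clM y).presheaf.stalk y) (X.presheaf.germ V y hyV).hom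
  haveI : Coh.IsQCoh (AssSch12.clM y) := AssSch12.isQCoh_clM y
  let g : Γ(AssSch12.clM y, V) →ₗ[Γ(X, V)] (AssSch12.clM y).presheaf.stalk y :=
    { toFun := fun a => (AssSch12.clM y).presheaf.germ V y hyV a
      map_add' := fun a b => map_add _ a b
      map_smul' := fun r a => QCohLoc.germ_smul' (AssSch12.clM y) _ r a }
  haveI := EGA43.QcohFP.isLocalizedModule_germ (AssSch12.clM y) hV hyV g fun _ => rfl
  obtain ⟨⟨c, hc⟩, h⟩ := IsLocalizedModule.exists_of_eq (S := (hV.primeIdealOf ⟨y, hyV⟩).asIdeal.primeCompl) (f := g)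
    (x₁ := AssSch12.clOne y V) (x₂ := 0) (hs.elim _ _)
  exact hc ((AssSch12.smul_clOne_eq_zero y hV hyV c).1 (h.trans (smul_zero _)))

/-- `ℰxt` of the prelude in terms of injective resolutions. -/
theorem isZero_extSh_iff (G F : X.Modules) [ModSite.HasSheafHom (O := X.sheaf) G]
    [HasInjectiveResolutions (ModSite.Mod X.sheaf)] (I : InjectiveResolution F) (i : ℕ) :
    IsZero ((ModSite.extSh (O := X.sheaf) G i).obj F) ↔ IsZero ((homCx G I).homology i) :=
  ⟨fun h => h.of_iso (extShIso G I i).symm, fun h => h.of_iso (extShIso G I i)⟩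

end Groth.Agent.InjMod14
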