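import Groth.Agent.InjMod14.Opens
import Groth.Agent.AmpleLib.Generated
import Groth.Agent.DCat.PerfTensor
import Groth.Agent.Coherent.QcohOps
import Groth.Agent.Coherent.CohBC.HomSheaf
import Groth.Agent.Coherent.CohBC.PushStructure
import Groth.Agent.Desc19b.GGFpqc

/-!
# Stalks of injective modules on locally Noetherian schemes are injective
-/

set_option autoImplicit false
set_option backward.isDefEq.respectTransparency false
set_option maxHeartbeats 1000000

universe u

open CategoryTheory CategoryTheory.Limits AlgebraicGeometry Opposite TopologicalSpace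
open Groth.Agent.Coherent Groth.Agent.PicLib Groth.Agent.AmpleLib

namespace Groth.Agent.InjMod14

variable {X : Scheme.{u}}

/-- Prescribed values on finitely many functions satisfying all their relations are multiples of one
section, for an injective module on an affine scheme. -/
theorem exists_section_of_relations [IsAffine X] (I : X.Modules) [Injective I] {n : ℕ}
    (A : Fin n → Γ(X, ⊤)) (M : Fin n → Γ(I, ⊤))
    (h : ∀ r : Fin n → Γ(X, ⊤), ∑ k, r k * A k = 0 → ∑ k, r k • M k = 0) :
    ∃ e : Γ(I, ⊤), ∀ k, A k • e = M k := by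
  classical
  let O := Coh.structureModule X
  let P := ∐ fun _ : Fin n => O
  let p : P ⟶ O := Sigma.desc fun k => unitDesc O (A k)
  let c : P ⟶ I := Sigma.desc fun k => unitDesc I (M k)
  have hfree : FlatMod.IsFinLocFree P :=
    DCat.PerfTensor.isFinLocFree_sigma _ fun _ => CohBC.isFinLocFree_structureModule X
  haveI : Coh.IsQCoh P := (CohBC.isCoh_of_isFinLocFree hfree).1
  haveI : Coh.IsQCoh O := (CohBC.isCoh_of_isFinLocFree (CohBC.isFinLocFree_structureModule X)).1
  haveI : Coh.IsQCoh (kernel p) := isQCoh_kernel p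
  obtain ⟨J, q, hq⟩ := globallyGenerated_of_isQuasiAffine (kernel p)
  haveI := hq
  have hsum : 𝟙 P = ∑ k, Sigma.π (fun _ : Fin n => O) k ≫ Limits.Sigma.ι (fun _ : Fin n => O) k := by
    refine Sigma.hom_ext _ _ fun k => ?_
    rw [Category.comp_id, Preadditive.comp_sum, Finset.sum_eq_single k
      (fun j _ hj => by rw [Sigma.ι_π_of_ne_assoc _ hj.symm, zero_comp])
      (fun h => absurd (Finset.mem_univ k) h), Sigma.ι_π_eq_id_assoc]
  have hker : kernel.ι p ≫ c = 0 := by
    refine (cancel_epi q).1 ?_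
    rw [comp_zero]
    refine Desc19b.eq_zero_of_app_top (𝟙 (freeMod X J)) _ fun w => ?_
    let v : Γ(P, ⊤) := (kernel.ι p).app ⊤ ((show freeMod X J ⟶ kernel p from q).app ⊤ w)
    let r : Fin n → Γ(X, ⊤) := fun k => (Sigma.π (fun _ : Fin n => O) k).app ⊤ v
    have hdec : ∀ {N : X.Modules} (φ : P ⟶ N),
        φ.app ⊤ v = ∑ k, r k • unitVal (Limits.Sigma.ι (fun _ : Fin n => O) k ≫ φ) ⊤ := fun {N} φ => by
      conv_lhs => rw [← Category.id_comp φ, hsum, Preadditive.sum_comp]
      have happ : ∀ (s : Finset (Fin n)) (f : Fin n → (P ⟶ N)),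
          (∑ k ∈ s, f k).app ⊤ v = ∑ k ∈ s, (f k).app ⊤ v := fun s f => by
        induction s using Finset.induction with
        | empty => rfl
        | insert a s ha ih => rw [Finset.sum_insert ha, Finset.sum_insert ha, ← ih]; rfl
      rw [happ]
      refine Finset.sum_congr rfl fun k _ => ?_
      rw [Category.assoc]
      exact app_unit (Limits.Sigma.ι (fun _ : Fin n => O) k ≫ φ) (r k)
    have hp : p.app ⊤ v = 0 :=
      (ConcreteCategory.congr_hom (congrArg (fun φ => Scheme.Modules.Hom.app φ ⊤) (kernel.condition p)) _).trans rfl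
    show c.app ⊤ v = 0
    rw [hdec c]
    simp only [c, Sigma.ι_desc, unitVal_unitDesc, resM_self]
    refine h r ?_
    rw [← hp, hdec p]
    simp only [p, Sigma.ι_desc, unitVal_unitDesc, resM_self]
    rfl
  let ψ₀ : cokernel (kernel.ι p) ⟶ I := cokernel.desc (kernel.ι p) c hker
  haveI : Mono (Abelian.factorThruCoimage p) := inferInstance
  obtain ⟨θ, hθ⟩ := Injective.factors (J := I) (show Abelian.coimage p ⟶ I from ψ₀) (Abelian.factorThruCoimage p)
  refine ⟨unitVal θ ⊤, fun k => ?_⟩
  have hpc : p ≫ θ = c := by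
    rw [← Abelian.coimage.fac p, Category.assoc, hθ]
    exact cokernel.π_desc _ _ _
  have h1 := congrArg (fun φ => unitVal φ ⊤) (congrArg (Limits.Sigma.ι (fun _ : Fin n => O) k ≫ ·) hpc)
  simp only [p, c, Sigma.ι_desc_assoc, Sigma.ι_desc] at h1
  have h2 : unitVal (unitDesc O (A k) ≫ θ) ⊤ = A k • unitVal θ ⊤ := by
    show θ.app ⊤ (unitVal (unitDesc O (A k)) ⊤) = _
    rw [unitVal_unitDesc, resM_self]
    exact app_unit θ (A k)
  rw [← h2, h1, unitVal_unitDesc, resM_self]

/-- Stalks of injective modules on a locally Noetherian scheme are injective. -/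
theorem injective_stalk [IsLocallyNoetherian X] (I : X.Modules) [Injective I] (x : X) :
    Module.Injective (X.presheaf.stalk x) (I.presheaf.stalk x) := by
  classical
  refine Module.Baer.injective fun J ψ => ?_
  haveI : IsNoetherianRing (X.presheaf.stalk x) := inferInstance
  obtain ⟨n, a, ha⟩ := Submodule.fg_iff_exists_fin_generating_family.1 (IsNoetherian.noetherian J)
  have haJ : ∀ k, a k ∈ J := fun k => ha.le (Submodule.subset_span ⟨k, rfl⟩)
  choose U hU A hA using fun k => X.presheaf.exists_germ_eq (x := x) (a k)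
  choose U' hU' M hM using fun k => I.presheaf.exists_germ_eq (x := x) (ψ ⟨a k, haJ k⟩)
  have hopen : IsOpen (⋂ k, ((U k : Set X) ∩ U' k)) := isOpen_iInter_of_finite fun k => (U k).2.inter (U' k).2
  obtain ⟨_, ⟨W, hW, rfl⟩, hxW, hWU⟩ := X.isBasis_affineOpens.exists_subset_of_mem_open
    (show x ∈ ⋂ k, ((U k : Set X) ∩ U' k) from Set.mem_iInter.2 fun k => ⟨hU k, hU' k⟩) hopen
  let A' : Fin n → Γ(X, W) := fun k =>
    X.presheaf.map (homOfLE (show W ≤ U k from fun z hz => (Set.mem_iInter.1 (hWU hz) k).1)).op (A k)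
  let M' : Fin n → Γ(I, W) := fun k =>
    resM I (show W ≤ U' k from fun z hz => (Set.mem_iInter.1 (hWU hz) k).2) (M k)
  have hA' : ∀ k, X.presheaf.germ W x hxW (A' k) = a k := fun k =>
    (X.presheaf.germ_res_apply _ x hxW (A k)).trans (hA k)
  have hM' : ∀ k, I.presheaf.germ W x hxW (M' k) = ψ ⟨a k, haJ k⟩ := fun k =>
    (I.presheaf.germ_res_apply _ x hxW (M k)).trans (hM k)
  haveI : IsNoetherianRing Γ(X, W) := IsLocallyNoetherian.component_noetherian ⟨W, hW⟩
  let Rel : Submodule Γ(X, W) (Fin n → Γ(X, W)) := LinearMap.ker (Fintype.linearCombination Γ(X, W) A')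
  obtain ⟨T, hT⟩ : Rel.FG := IsNoetherian.noetherian _
  -- each relation kills the values near `x`
  have hrel : ∀ r : T, ∃ f : Γ(X, W), x ∈ X.basicOpen f ∧
      resM I (X.basicOpen_le f) (∑ k, (r : Fin n → Γ(X, W)) k • M' k) = 0 := by
    intro r
    have hr : ∑ k, (r : Fin n → Γ(X, W)) k • A' k = 0 := by
      have := LinearMap.mem_ker.1 (hT.le (Submodule.subset_span r.2))
      rwa [Fintype.linearCombination_apply] at this
    have hz : I.presheaf.germ W x hxW (∑ k, (r : Fin n → Γ(X, W)) k • M' k) = 0 := by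
      have h0 : ∑ k, X.presheaf.germ W x hxW ((r : Fin n → Γ(X, W)) k) • (⟨a k, haJ k⟩ : J) = 0 := by
        apply Subtype.ext
        rw [AddSubmonoidClass.coe_finsetSum, ZeroMemClass.coe_zero]
        rw [← map_zero (X.presheaf.germ W x hxW).hom, ← hr, map_sum]
        refine Finset.sum_congr rfl fun k _ => ?_
        show X.presheaf.germ W x hxW _ * a k = X.presheaf.germ W x hxW ((r : Fin n → Γ(X, W)) k * A' k)
        rw [map_mul, hA']
      rw [map_sum, ← map_zero ψ, ← h0, map_sum]
      exact Finset.sum_congr rfl fun k _ => by rw [QCohLoc.germ_smul' I hxW, hM', map_smul]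
    obtain ⟨W', hxW', i, i', he⟩ := I.presheaf.germ_eq x (U := W) (V := W) hxW hxW _ 0 (hz.trans (map_zero _).symm)
    obtain ⟨f, hf, hxf⟩ := hW.exists_basicOpen_le (V := W') ⟨x, hxW'⟩ hxW
    refine ⟨f, hxf, ?_⟩
    rw [← resM_resM I (leOfHom i) hf]
    exact (congrArg (resM I hf) (he.trans (map_zero _))).trans (map_zero _)
  choose f hxf hf using hrel
  let g : Γ(X, W) := ∏ r, f r
  have hgf : ∀ r, X.basicOpen g ≤ X.basicOpen (f r) := fun r => by
    obtain ⟨c, hc⟩ := Finset.dvd_prod_of_mem f (Finset.mem_univ r)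
    rw [show g = f r * c from hc, Scheme.basicOpen_mul]
    exact inf_le_left
  have hxg : x ∈ X.basicOpen g := by
    rw [Scheme.mem_basicOpen _ _ _ hxW, map_prod]
    exact IsUnit.prod_iff.2 fun r _ => (Scheme.mem_basicOpen _ _ _ hxW).1 (hxf r)
  -- work on `D(g)`
  let V : X.Opens := X.basicOpen g
  have hVW : V ≤ W := X.basicOpen_le g
  haveI : IsAffine V.toScheme := hW.basicOpen g
  haveI := injective_restrict V.ι I
  let τ := (V.ι.appIso ⊤)
  have hle : V.ι ''ᵁ (⊤ : V.toScheme.Opens) ≤ W := (V.ι_image_le ⊤).trans hVW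
  let AV : Fin n → Γ(V.toScheme, ⊤) := fun k => τ.hom (X.presheaf.map (homOfLE hle).op (A' k))
  let MV : Fin n → Γ(I.restrict V.ι, ⊤) := fun k => resM I hle (M' k)
  obtain ⟨e, he⟩ := exists_section_of_relations (I.restrict V.ι) AV MV fun r hr => by
    -- localise the relation
    letI := (X.presheaf.map (homOfLE hVW).op).hom.toAlgebra
    haveI := hW.isLocalization_basicOpen g
    let r' : Fin n → Γ(X, V.ι ''ᵁ (⊤ : V.toScheme.Opens)) := fun k => τ.inv (r k)
    have hr' : ∑ k, r' k * X.presheaf.map (homOfLE hle).op (A' k) = 0 := by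
      rw [← map_zero τ.inv.hom, ← hr, map_sum]
      refine Finset.sum_congr rfl fun k _ => ?_
      rw [map_mul]
      exact congrArg (r' k * ·) (Iso.hom_inv_id_apply τ _).symm
    show ∑ k, (r' k • resM I hle (M' k) : Γ(I, V.ι ''ᵁ (⊤ : V.toScheme.Opens))) = 0
    have hV : V ≤ V.ι ''ᵁ (⊤ : V.toScheme.Opens) := by
      rw [Scheme.Hom.image_top_eq_opensRange, Scheme.Opens.opensRange_ι]
    refine ((resM_bijective_of_eq I hV ((V.ι_image_le ⊤).antisymm hV)).1 ?_)
    rw [map_zero, map_sum]
    let r'' : Fin n → Γ(X, V) := fun k => X.presheaf.map (homOfLE hV).op (r' k)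
    obtain ⟨⟨d, hd⟩, hd'⟩ := IsLocalization.exist_integer_multiples_of_finite (Submonoid.powers g) r''
    choose R₀ hR₀ using hd'
    have hA0 : ∀ k, X.presheaf.map (homOfLE hV).op (X.presheaf.map (homOfLE hle).op (A' k)) =
        algebraMap Γ(X, W) Γ(X, V) (A' k) := fun k =>
      (ConcreteCategory.congr_hom (X.presheaf.map_comp (homOfLE hle).op (homOfLE hV).op) (A' k)).symm
    obtain ⟨⟨c, hc⟩, hc'⟩ := (IsLocalization.map_eq_zero_iff (Submonoid.powers g) Γ(X, V)
      (∑ k, R₀ k * A' k)).1 (by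
        rw [map_sum, ← mul_zero (algebraMap Γ(X, W) Γ(X, V) d), ← map_zero (X.presheaf.map (homOfLE hV).op).hom,
          ← hr', map_sum, Finset.mul_sum]
        refine Finset.sum_congr rfl fun k _ => ?_
        rw [map_mul, map_mul, hR₀, hA0, Algebra.smul_def]
        exact mul_assoc _ _ _)
    have hmem : (fun k => c * R₀ k) ∈ Rel := by
      rw [LinearMap.mem_ker, Fintype.linearCombination_apply, ← hc', Finset.mul_sum]
      exact Finset.sum_congr rfl fun k _ => mul_assoc _ _ _
    have hkill : resM I hVW (∑ k, (c * R₀ k) • M' k) = 0 := by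
      suffices key : ∀ v ∈ Rel, resM I hVW (∑ k, v k • M' k) = 0 from key _ hmem
      intro v hv
      induction hT.ge hv using Submodule.span_induction with
      | mem t ht =>
        rw [← resM_resM I (X.basicOpen_le (f ⟨t, ht⟩)) (hgf ⟨t, ht⟩), hf ⟨t, ht⟩, map_zero]
      | zero => simp
      | add p q hp hq h h' =>
        simp only [Pi.add_apply, add_smul, Finset.sum_add_distrib, map_add]
        rw [h (hT.le hp), h' (hT.le hq), add_zero]
      | smul u p hp h =>
        simp only [Pi.smul_apply, smul_eq_mul, mul_smul, ← Finset.smul_sum]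
        rw [resM_smul, h (hT.le hp), smul_zero]
    have hu : IsUnit (algebraMap Γ(X, W) Γ(X, V) (c * d)) :=
      IsLocalization.map_units _ (⟨c * d, mul_mem hc hd⟩ : Submonoid.powers g)
    refine hu.smul_eq_zero.1 ?_
    refine Eq.trans ?_ hkill
    rw [Finset.smul_sum, map_sum]
    refine Finset.sum_congr rfl fun k _ => ?_
    rw [resM_smul, resM_resM, smul_smul, resM_smul]
    refine congrArg (· • _) ?_
    show algebraMap Γ(X, W) Γ(X, V) (c * d) * r'' k = algebraMap Γ(X, W) Γ(X, V) (c * R₀ k)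
    rw [map_mul, map_mul, hR₀, Algebra.smul_def]
    exact mul_assoc _ _ _
  -- take the germ
  have hxV : x ∈ V.ι ''ᵁ (⊤ : V.toScheme.Opens) := ⟨⟨x, hxg⟩, trivial, rfl⟩
  let e' : I.presheaf.stalk x := I.presheaf.germ (V.ι ''ᵁ (⊤ : V.toScheme.Opens)) x hxV e
  refine ⟨LinearMap.toSpanSingleton _ _ e', fun b hb => ?_⟩
  suffices key : ∀ z ∈ J, ∀ hz : z ∈ J, z • e' = ψ ⟨z, hz⟩ from key b hb hb
  intro z hz
  have h0 : z ∈ Submodule.span (X.presheaf.stalk x) (Set.range a) := ha.ge hz
  clear hz
  induction h0 using Submodule.span_induction with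
  | mem z hz0 =>
    intro hz'
    obtain ⟨k, rfl⟩ := hz0
    rw [← hM' k, ← hA' k, ← X.presheaf.germ_res_apply (homOfLE hle) x hxV, ← QCohLoc.germ_smul' I hxV,
      ← I.presheaf.germ_res_apply (homOfLE hle) x hxV (M' k)]
    refine congrArg _ ?_
    refine Eq.trans ?_ (he k)
    show X.presheaf.map (homOfLE hle).op (A' k) • (show Γ(I, V.ι ''ᵁ (⊤ : V.toScheme.Opens)) from e) =
      τ.inv (τ.hom (X.presheaf.map (homOfLE hle).op (A' k))) • (show Γ(I, V.ι ''ᵁ (⊤ : V.toScheme.Opens)) from e)
    rw [Iso.hom_inv_id_apply]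
  | zero => intro hz'; rw [zero_smul]; exact (map_zero ψ).symm.trans (congrArg ψ (Subtype.ext rfl))
  | add p q hp hq h h' =>
    intro hz'
    rw [add_smul, h (ha.le hp), h' (ha.le hq), ← map_add]
    rfl
  | smul u p hp h =>
    intro hz'
    rw [smul_assoc, h (ha.le hp), ← map_smul]
    rfl

end Groth.Agent.InjMod14
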