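import Groth.Agent.InjMod14.Tilde
import Groth.Agent.InjMod14.StalkInjective
import Groth.Agent.SerreDual.ExtShStalk
import Groth.Agent.SerreDual.ExtShRestrict
import Groth.Agent.Coherent.SubFTApps
import Groth.Agent.Coherent.InternalHomAdj

/-!
# Vanishing of sheaf `Ext¹` out of coherent modules forces injectivity
-/

set_option autoImplicit false
set_option linter.style.haveILetI false
set_option backward.isDefEq.respectTransparency false
set_option backward.isDefEq.respectTransparency.types false
set_option maxHeartbeats 1000000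

universe u

open CategoryTheory CategoryTheory.Abelian CategoryTheory.Limits AlgebraicGeometry Opposite TopologicalSpace
open Groth.Agent.Coherent Groth.Agent.PicLib Groth.Agent.ModStalk Groth.Agent.SerreDual

namespace Groth.Agent.InjMod14

/-- Baer's criterion in terms of `Ext¹` out of cyclic modules. -/
theorem injective_of_ext_cyclic {S : Type u} [CommRing S] (M : ModuleCat.{u} S)
    (h : ∀ J : Ideal S, ∃ C : ModuleCat.{u} S, ∃ q : S →ₗ[S] C, Function.Surjective q ∧
      LinearMap.ker q = J ∧ Subsingleton (Ext C M 1)) : Module.Injective S M := by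
  refine Module.Baer.injective fun J g => ?_
  obtain ⟨C, q, hq, hker, hsub⟩ := h J
  let T : ShortComplex (ModuleCat.{u} S) :=
    ShortComplex.mk (ModuleCat.ofHom J.subtype) (ModuleCat.ofHom q : ModuleCat.of S S ⟶ C)
      (ModuleCat.hom_ext (LinearMap.ext fun a => LinearMap.mem_ker.1 (hker ▸ a.2)))
  have hT : T.ShortExact :=
    { exact := (ShortComplex.moduleCat_exact_iff _).2 fun x hx => ⟨⟨x, hker ▸ LinearMap.mem_ker.2 hx⟩, rfl⟩
      mono_f := (ModuleCat.mono_iff_injective (ModuleCat.ofHom J.subtype)).2 Subtype.val_injective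
      epi_g := (ModuleCat.epi_iff_surjective (ModuleCat.ofHom q : ModuleCat.of S S ⟶ C)).2 hq }
  obtain ⟨φ, hφ⟩ := Ext.contravariant_sequence_exact₁ hT _ (Ext.mk₀ (ModuleCat.ofHom g : T.X₁ ⟶ M))
    (zero_add 1) (Subsingleton.elim _ _)
  obtain ⟨φ, rfl⟩ := (Ext.mk₀_bijective _ _).2 φ
  rw [Ext.mk₀_comp_mk₀] at hφ
  exact ⟨φ.hom, fun x hx => congrArg (fun t : T.X₁ ⟶ M => t.hom ⟨x, hx⟩) ((Ext.mk₀_bijective _ _).1 hφ)⟩

variable {X : Scheme.{u}}

/-- The stalk of a map out of the structure sheaf. -/
theorem stalk_unitDesc (M : X.Modules) (a : Γ(M, ⊤)) (x : X) (c : X.presheaf.stalk x) :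
    (DerSch.stalkFunctor X x).map (unitDesc M a) (SDiv28.unitStalkEquiv x c) = c • M.presheaf.germ ⊤ x trivial a := by
  show (DerSch.stalkFunctor X x).map (unitDesc M a) (c • AssSch12.unitOne x) = _
  rw [map_smul]
  refine congrArg (c • ·) ?_
  refine (stalk_map_germ (unitDesc M a) (show x ∈ (⊤ : X.Opens) from trivial) (show Γ(Coh.structureModule X, ⊤) from (1 : Γ(X, ⊤)))).trans ?_
  exact congrArg (M.presheaf.germ ⊤ x trivial) ((unitVal_unitDesc M a ⊤).trans (resM_self _ _ _))

/-- On a Noetherian affine scheme every cyclic module over a local ring is the stalk of a coherent sheaf. -/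
theorem exists_coh_cyclic_stalk [IsAffine X] [IsNoetherian X] (x : X) (J : Ideal (X.presheaf.stalk x)) :
    ∃ (G : X.Modules) (q : X.presheaf.stalk x →ₗ[X.presheaf.stalk x] (DerSch.stalkFunctor X x).obj G),
      Coh.IsCoh G ∧ Function.Surjective q ∧ LinearMap.ker q = J := by
  classical
  let S := DerSch.stalkFunctor X x
  have hW : IsAffineOpen (⊤ : X.Opens) := isAffineOpen_top X
  haveI : IsNoetherianRing Γ(X, ⊤) := IsLocallyNoetherian.component_noetherian ⟨⊤, hW⟩
  letI := (X.presheaf.germ ⊤ x trivial).hom.toAlgebra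
  haveI : IsLocalization (hW.primeIdealOf ⟨x, trivial⟩).asIdeal.primeCompl (X.presheaf.stalk x) :=
    hW.isLocalization_stalk ⟨x, trivial⟩
  obtain ⟨n, A, hA⟩ := Submodule.fg_iff_exists_fin_generating_family.1
    (IsNoetherian.noetherian (Ideal.comap (algebraMap Γ(X, ⊤) (X.presheaf.stalk x)) J))
  have hJ : J = Ideal.span (Set.range fun k => X.presheaf.germ ⊤ x trivial (A k)) := by
    conv_lhs => rw [← IsLocalization.map_under (hW.primeIdealOf ⟨x, trivial⟩).asIdeal.primeCompl
      (X.presheaf.stalk x) J]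
    show Ideal.map _ (Ideal.comap (algebraMap Γ(X, ⊤) (X.presheaf.stalk x)) J) = _
    rw [← hA, Ideal.submodule_span_eq, Ideal.map_span, ← Set.range_comp]
    rfl
  let O := Coh.structureModule X
  let P := ∐ fun _ : Fin n => O
  let p : P ⟶ O := Sigma.desc fun k => unitDesc O (A k)
  have hO : Coh.IsCoh O := CohBC.isCoh_of_isFinLocFree (CohBC.isFinLocFree_structureModule X)
  have hP : Coh.IsQCoh P := (CohBC.isCoh_of_isFinLocFree
    (DCat.PerfTensor.isFinLocFree_sigma _ fun _ => CohBC.isFinLocFree_structureModule X)).1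
  let q : X.presheaf.stalk x →ₗ[X.presheaf.stalk x] S.obj (cokernel p) :=
    (S.map (cokernel.π p)).hom ∘ₗ (SDiv28.unitStalkEquiv x).toLinearMap
  haveI : Epi (S.map (cokernel.π p)) := inferInstance
  refine ⟨cokernel p, q, isCoh_cokernel p hP hO,
    ((ModuleCat.epi_iff_surjective (S.map (cokernel.π p))).1 inferInstance).comp (SDiv28.unitStalkEquiv x).surjective,
    le_antisymm ?_ ?_⟩
  · have hex : (ShortComplex.mk p (cokernel.π p) (cokernel.condition p)).Exact :=
      ShortComplex.exact_of_g_is_cokernel _ (cokernelIsCokernel p)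
    intro z hz
    obtain ⟨w, hw⟩ := (ShortComplex.moduleCat_exact_iff _).1 (hex.map S) (SDiv28.unitStalkEquiv x z) (LinearMap.mem_ker.1 hz)
    let π : S.obj O ⟶ ModuleCat.of (X.presheaf.stalk x) (X.presheaf.stalk x ⧸ J) := ModuleCat.ofHom (J.mkQ ∘ₗ (SDiv28.unitStalkEquiv x).symm.toLinearMap)
    have h0 : S.map p ≫ π = 0 := by
      apply ((stalkAdj x).homEquiv _ _).injective
      refine Sigma.hom_ext _ _ fun k => ?_
      rw [← Adjunction.homEquiv_naturality_left, ← Adjunction.homEquiv_naturality_left, comp_zero,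
        ← Category.assoc, ← Functor.map_comp, Sigma.ι_desc]
      refine congrArg _ (ModuleCat.hom_ext (LinearMap.ext fun v => ?_))
      obtain ⟨c, rfl⟩ := (SDiv28.unitStalkEquiv x).surjective v
      refine (Submodule.Quotient.mk_eq_zero J).2 ?_
      show (SDiv28.unitStalkEquiv x).symm ((DerSch.stalkFunctor X x).map (unitDesc O (A k)) _) ∈ J
      rw [stalk_unitDesc, AssSch12.germ_eq_smul_unitOne (U := ⊤) x trivial (A k), ← mul_smul]
      refine Eq.subst (motive := fun t => t ∈ J) ((SDiv28.unitStalkEquiv x).symm_apply_apply _).symm ?_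
      exact J.mul_mem_left c (hJ ▸ Ideal.subset_span ⟨k, rfl⟩)
    have hz0 : π (SDiv28.unitStalkEquiv x z) = 0 := (congrArg π hw.symm).trans (congrArg (fun t => t.hom w) h0)
    have hz1 : Submodule.Quotient.mk (p := J) ((SDiv28.unitStalkEquiv x).symm (SDiv28.unitStalkEquiv x z)) = 0 := hz0
    rw [LinearEquiv.symm_apply_apply] at hz1
    exact (Submodule.Quotient.mk_eq_zero J).1 hz1
  · rw [hJ, Ideal.span, Submodule.span_le]
    rintro _ ⟨k, rfl⟩
    refine LinearMap.mem_ker.2 ?_
    have h1 : S.map p (S.map (Limits.Sigma.ι (fun _ : Fin n => O) k) (SDiv28.unitStalkEquiv x 1)) =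
        SDiv28.unitStalkEquiv x (X.presheaf.germ ⊤ x trivial (A k)) := by
      rw [stalk_comp_apply, Sigma.ι_desc, stalk_unitDesc, one_smul]
      exact AssSch12.germ_eq_smul_unitOne (U := ⊤) x trivial (A k)
    show S.map (cokernel.π p) (SDiv28.unitStalkEquiv x (X.presheaf.germ ⊤ x trivial (A k))) = 0
    rw [← h1, stalk_comp_apply, cokernel.condition, Functor.map_zero]
    rfl

/-- The first right derived functor of the sheaf Hom is the homology of `Hom(G, I^•)`. -/
theorem isZero_homCx_of_rightDerived [HasInjectiveResolutions X.Modules] {F : X.Modules} (G : X.Modules)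
    [DCoh.HasSheafHom G] [(DCoh.sheafHom G).Additive] (I : InjectiveResolution F) (i : ℕ)
    (h : IsZero (((DCoh.sheafHom G).rightDerived i).obj F)) : IsZero ((homCx G I).homology i) :=
  h.of_iso ((I.isoRightDerivedObj (DCoh.sheafHom G) i) ≪≫
    (HomologicalComplex.homologyFunctor X.Modules (ComplexShape.up ℕ) i).mapIso
      ((NatIso.mapHomologicalComplex (sheafHomIso G) (ComplexShape.up ℕ)).app I.cocomplex)).symm

/-- A quasi-coherent module is injective if sheaf `Ext¹` out of all coherent modules into it vanishes. -/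
theorem injective_of_extSh [IsLocallyNoetherian X] [HasInjectiveResolutions X.Modules] (F : X.Modules)
    (hF : Coh.IsQCoh F)
    (h : ∀ (G : X.Modules) [DCoh.HasSheafHom G] [(DCoh.sheafHom G).Additive],
      Coh.IsCoh G → IsZero (((DCoh.sheafHom G).rightDerived 1).obj F)) : Injective F := by
  refine injective_of_qcoh_stalks F hF fun x => ?_
  obtain ⟨U, hU, hxU, -⟩ := Opens.isBasis_iff_nbhd.mp X.isBasis_affineOpens (Opens.mem_top x)
  let j := Scheme.Opens.ι U
  haveI : IsAffine (Scheme.Opens.toScheme U) := hU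
  haveI : IsNoetherian (Scheme.Opens.toScheme U) := {}
  haveI := SerreDual.hasInjectiveResolutions_modules (Scheme.Opens.toScheme U)
  let y : Scheme.Opens.toScheme U := ⟨x, hxU⟩
  let M : ModuleCat.{u} ((Scheme.Opens.toScheme U).presheaf.stalk y) :=
    (DerSch.stalkFunctor (Scheme.Opens.toScheme U) y).obj (F.restrict j)
  have hM : Module.Injective _ M := injective_of_ext_cyclic M fun J => by
    obtain ⟨G₀, q, hG₀, hq, hker⟩ := exists_coh_cyclic_stalk y J
    haveI := hG₀.1
    obtain ⟨G, hG, hGft, ⟨e⟩⟩ := Coherent.exists_finiteType_extension_module (X := X) (fun z => by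
      obtain ⟨W, hW, hzW, -⟩ := Opens.isBasis_iff_nbhd.mp X.isBasis_affineOpens (Opens.mem_top z)
      haveI : IsNoetherianRing Γ(X, W) := IsLocallyNoetherian.component_noetherian ⟨W, hW⟩
      exact ⟨W, hzW, noetherianSpace_of_isAffineOpen W hW⟩) U G₀ hG₀.2
    haveI := hasSheafHom G
    haveI : (DCoh.sheafHom G).Additive :=
      haveI := additive_internalHomFunctor G
      Functor.additive_of_iso (sheafHomIso G).symm
    refine ⟨_, q, hq, hker, ?_⟩
    let I := InjectiveResolution.of F
    have hz := isZero_homCx_of_rightDerived G I 1 (h G ⟨hG, hGft⟩)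
    let I' := InjectiveResolution.of (F.restrict j)
    obtain ⟨w⟩ := nonempty_homology_restrict j (F := G) I I' 1
    have hz' : IsZero ((homCx (G.restrict j) I').homology 1) :=
      ((Scheme.Modules.restrictFunctor j).map_isZero hz).of_iso w.symm
    obtain ⟨eq⟩ := nonempty_stalk_homology_affine y I' 1 (Coherent.isCoh_restrict U ⟨hG, hGft⟩)
    haveI := ModuleCat.subsingleton_of_isZero
      ((DerSch.stalkFunctor (Scheme.Opens.toScheme U) y).map_isZero hz')
    haveI := eq.symm.toEquiv.subsingleton
    let es := (DerSch.stalkFunctor (Scheme.Opens.toScheme U) y).mapIso e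
    refine subsingleton_of_forall_eq 0 fun z => ?_
    have h1 : (Ext.mk₀ es.hom).comp z (zero_add 1) = 0 := Subsingleton.elim _ _
    rw [← Ext.mk₀_id_comp z, ← es.inv_hom_id, ← Ext.mk₀_comp_mk₀, Ext.comp_assoc_of_second_deg_zero, h1, Ext.comp_zero]
  obtain ⟨φ, e, he, -, -⟩ := RefHullLib.exists_semilinear_restrict j F y
  haveI : Module.Injective ((Scheme.Opens.toScheme U).presheaf.stalk y) ((F.restrict j).presheaf.stalk y) := hM
  refine injective_of_semilinear φ.symm e.symm fun a m => e.injective ?_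
  rw [he]
  exact (e.apply_symm_apply _).trans ((congrArg (· • m) (φ.apply_symm_apply a)).symm.trans
    (congrArg (φ (φ.symm a) • ·) (e.apply_symm_apply m).symm))

end Groth.Agent.InjMod14
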