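import Groth.Agent.InjMod14.Opens
import Groth.Agent.Coherent.SupportPullback
import Groth.Agent.EGA43.QcohFP

/-!
# Submodules of coherent modules on Noetherian schemes are generated by finitely many sections
-/

set_option autoImplicit false
set_option backward.isDefEq.respectTransparency false
set_option maxHeartbeats 1000000

universe u

open CategoryTheory CategoryTheory.Limits AlgebraicGeometry Opposite TopologicalSpace
open Groth.Agent.Coherent Groth.Agent.PicLib

namespace Groth.Agent.InjMod14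

variable {X : Scheme.{u}}

/-- Germs at `y` of a family of sections. -/
def germSet (G : X.Modules) (S : Set (Σ U : X.Opens, (Γ(G, U) : Type u))) (y : X) :
    Set (G.presheaf.stalk y) :=
  {v | ∃ p ∈ S, ∃ h : y ∈ p.1, G.presheaf.germ p.1 y h p.2 = v}

/-- The family generates on a set. -/
def GenAt (G : X.Modules) (Z : Set X) : Prop :=
  ∃ S : Set (Σ U : X.Opens, (Γ(G, U) : Type u)), S.Finite ∧
    ∀ y ∈ Z, Submodule.span (X.presheaf.stalk y) (germSet G S y) = ⊤

theorem GenAt.union {G : X.Modules} {Z Z' : Set X} (h : GenAt G Z) (h' : GenAt G Z') : GenAt G (Z ∪ Z') := by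
  obtain ⟨S, hSf, hS⟩ := h
  obtain ⟨S', hSf', hS'⟩ := h'
  refine ⟨S ∪ S', hSf.union hSf', fun y hy => eq_top_iff.2 ?_⟩
  rcases hy with hy | hy
  · rw [← hS y hy]
    exact Submodule.span_mono fun v ⟨p, hp, h, e⟩ => ⟨p, Or.inl hp, h, e⟩
  · rw [← hS' y hy]
    exact Submodule.span_mono fun v ⟨p, hp, h, e⟩ => ⟨p, Or.inr hp, h, e⟩

theorem GenAt.mono {G : X.Modules} {Z Z' : Set X} (h : GenAt G Z) (hZ : Z' ⊆ Z) : GenAt G Z' :=
  let ⟨S, hSf, hS⟩ := h
  ⟨S, hSf, fun y hy => hS y (hZ hy)⟩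

theorem germ_res' (M : X.Modules) {U W : X.Opens} (h : W ≤ U) {y : X} (hy : y ∈ W) (s : Γ(M, U)) :
    M.presheaf.germ W y hy (resM M h s) = M.presheaf.germ U y (h hy) s :=
  M.presheaf.germ_res_apply (homOfLE h) y hy s

variable [IsLocallyNoetherian X]

/-- Near a point, along its closure, a submodule of a coherent module is generated by finitely many
sections. -/
theorem exists_nhd_genAt {G M : X.Modules} (hM : Coh.IsCoh M) (ι : G ⟶ M) [Mono ι] (η : X) :
    ∃ V : X.Opens, η ∈ V ∧ GenAt G ((V : Set X) ∩ closure {η}) := by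
  classical
  have := hM.1
  haveI : Module.Finite (X.presheaf.stalk η) (M.presheaf.stalk η) := finite_stalk_of_isFT hM.1 hM.2 η
  have hinjη : Function.Injective ((DerSch.stalkFunctor X η).map ι) :=
    (ModuleCat.mono_iff_injective ((DerSch.stalkFunctor X η).map ι)).1 inferInstance
  haveI : IsNoetherianRing (X.presheaf.stalk η) := inferInstance
  haveI : _root_.IsNoetherian (X.presheaf.stalk η) ((DerSch.stalkFunctor X η).obj M) :=
    isNoetherian_of_isNoetherianRing_of_finite (X.presheaf.stalk η) (M.presheaf.stalk η)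
  haveI : Module.Finite (X.presheaf.stalk η) (G.presheaf.stalk η) :=
    Module.Finite.of_injective ((DerSch.stalkFunctor X η).map ι).hom hinjη
  obtain ⟨n, v, hv⟩ := Module.Finite.exists_fin (R := X.presheaf.stalk η) (M := G.presheaf.stalk η)
  choose U hU s hs using fun k => G.presheaf.exists_germ_eq (x := η) (v k)
  obtain ⟨_, ⟨W₀, hW₀, rfl⟩, hηW₀, -⟩ := X.isBasis_affineOpens.exists_subset_of_mem_open
    (Set.mem_univ η) isOpen_univ
  have hopen : IsOpen ((W₀ : Set X) ∩ ⋂ k, (U k : Set X)) :=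
    W₀.isOpen.inter (isOpen_iInter_of_finite fun k => (U k).isOpen)
  obtain ⟨_, ⟨W, hW, rfl⟩, hηW, hWU⟩ := X.isBasis_affineOpens.exists_subset_of_mem_open
    (show η ∈ (W₀ : Set X) ∩ ⋂ k, (U k : Set X) from ⟨hηW₀, Set.mem_iInter.2 hU⟩) hopen
  let σ : Fin n → Γ(G, W) := fun k => resM G (fun z hz => Set.mem_iInter.1 (hWU hz).2 k) (s k)
  haveI : IsNoetherianRing Γ(X, W) := IsLocallyNoetherian.component_noetherian ⟨W, hW⟩
  haveI : Module.Finite Γ(X, W) Γ(M, W) := ((isCoh_iff_finite_sections M).1 hM).2 W hW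
  let K : Submodule Γ(X, W) Γ(M, W) := Submodule.span _ (Set.range fun k => ι.app W (σ k))
  let P := (hW.primeIdealOf ⟨η, hηW⟩).asIdeal.primeCompl
  let Ksat : Submodule Γ(X, W) Γ(M, W) :=
    { carrier := {r | ∃ w ∈ P, w • r ∈ K}
      zero_mem' := ⟨1, P.one_mem, by rw [smul_zero]; exact K.zero_mem⟩
      add_mem' := by
        rintro a b ⟨w, hw, ha⟩ ⟨w', hw', hb⟩
        refine ⟨w * w', P.mul_mem hw hw', ?_⟩
        rw [smul_add]
        exact K.add_mem (by rw [mul_comm, mul_smul]; exact K.smul_mem _ ha)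
          (by rw [mul_smul]; exact K.smul_mem _ hb)
      smul_mem' := by
        rintro c a ⟨w, hw, ha⟩
        exact ⟨w, hw, by rw [smul_comm]; exact K.smul_mem _ ha⟩ }
  obtain ⟨T, hT⟩ : Ksat.FG := IsNoetherian.noetherian _
  choose w hwP hwK using fun r : T => (hT.le (Submodule.subset_span r.2) : (r : Γ(M, W)) ∈ Ksat)
  let w₀ : Γ(X, W) := ∏ r, w r
  have hw₀P : w₀ ∈ P := prod_mem fun r _ => hwP r
  have hw₀ : ∀ r ∈ Ksat, w₀ • r ∈ K := by
    intro r hr
    refine (Submodule.span_le (p := K.comap (LinearMap.lsmul Γ(X, W) _ w₀))).2 (fun t ht => ?_) (hT.ge hr)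
    show w₀ • t ∈ K
    obtain ⟨c, hc⟩ := Finset.dvd_prod_of_mem w (Finset.mem_univ (⟨t, ht⟩ : T))
    rw [show w₀ = w ⟨t, ht⟩ * c from hc, mul_comm, mul_smul]
    exact K.smul_mem _ (hwK ⟨t, ht⟩)
  have hηV : η ∈ X.basicOpen w₀ := by
    rw [Scheme.mem_basicOpen _ _ _ hηW]
    letI := (X.presheaf.germ W η hηW).hom.toAlgebra
    haveI := hW.isLocalization_stalk ⟨η, hηW⟩
    exact (IsLocalization.AtPrime.isUnit_to_map_iff (X.presheaf.stalk η) (hW.primeIdealOf ⟨η, hηW⟩).asIdeal w₀).2 hw₀P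
  refine ⟨X.basicOpen w₀, hηV, (fun k => (⟨W, σ k⟩ : Σ U : X.Opens, (Γ(G, U) : Type u))) '' Set.univ,
    Set.toFinite _, fun y hy => ?_⟩
  obtain ⟨hyV, hyc⟩ := hy
  have hyW : y ∈ W := X.basicOpen_le _ hyV
  refine eq_top_iff.2 fun z _ => ?_
  obtain ⟨U₁, hyU₁, a, rfl⟩ := G.presheaf.exists_germ_eq (x := y) z
  obtain ⟨t, r, ht, hr⟩ := QCohLoc.exists_smul_stalk_eq_germ M hW hyW
    (M.presheaf.germ U₁ y hyU₁ (ι.app U₁ a))
  -- transfer the identity to `η`
  have hr' : M.presheaf.germ (W ⊓ U₁) y ⟨hyW, hyU₁⟩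
      (resM M inf_le_left r) = M.presheaf.germ (W ⊓ U₁) y ⟨hyW, hyU₁⟩
      ((X.presheaf.map (homOfLE (inf_le_left : W ⊓ U₁ ≤ W)).op t) • resM M inf_le_right (ι.app U₁ a)) := by
    rw [QCohLoc.germ_smul' M, germ_res', germ_res', X.presheaf.germ_res_apply]
    exact hr.symm
  obtain ⟨W', hyW', i, i', he⟩ := M.presheaf.germ_eq y (U := W ⊓ U₁) (V := W ⊓ U₁) ⟨hyW, hyU₁⟩ ⟨hyW, hyU₁⟩ _ _ hr'
  have hη : η ∈ W' := (specializes_iff_mem_closure.2 hyc).mem_open W'.isOpen hyW'
  have hη2 : η ∈ W ⊓ U₁ := leOfHom i hη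
  have e1 := (M.presheaf.germ_res_apply i η hη _).symm.trans
    ((congrArg (M.presheaf.germ W' η hη) he).trans (M.presheaf.germ_res_apply i' η hη _))
  rw [QCohLoc.germ_smul' M, germ_res', germ_res', X.presheaf.germ_res_apply] at e1
  -- membership in the saturation
  letI := (X.presheaf.germ W η hηW).hom.toAlgebra
  letI := Module.compHom (M.presheaf.stalk η) (X.presheaf.germ W η hηW).hom
  let gM : Γ(M, W) →ₗ[Γ(X, W)] M.presheaf.stalk η :=
    { toFun := fun a => M.presheaf.germ W η hηW a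
      map_add' := fun a b => map_add _ a b
      map_smul' := fun r a => QCohLoc.germ_smul' M hηW r a }
  haveI : IsLocalizedModule P gM := EGA43.QcohFP.isLocalizedModule_germ M hW hηW gM fun _ => rfl
  haveI : IsScalarTower Γ(X, W) (X.presheaf.stalk η) (M.presheaf.stalk η) :=
    IsScalarTower.of_algebraMap_smul fun _ _ => rfl
  haveI : IsLocalization P (X.presheaf.stalk η) := hW.isLocalization_stalk ⟨η, hηW⟩
  have hspan : M.presheaf.germ U₁ η hη2.2 (ι.app U₁ a) ∈
      Submodule.span (X.presheaf.stalk η) (gM '' (K : Set Γ(M, W))) := by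
    rw [← stalk_map_germ ι hη2.2 a]
    have h0 : G.presheaf.germ U₁ η hη2.2 a ∈ Submodule.span (X.presheaf.stalk η) (Set.range v) := by
      rw [hv]; trivial
    have h1 := Submodule.mem_map_of_mem (f := ((DerSch.stalkFunctor X η).map ι).hom) h0
    rw [Submodule.map_span] at h1
    refine Submodule.span_mono ?_ h1
    rintro _ ⟨_, ⟨k, rfl⟩, rfl⟩
    refine ⟨ι.app W (σ k), Submodule.subset_span ⟨k, rfl⟩, ?_⟩
    show M.presheaf.germ W η hηW (ι.app W (σ k)) = _
    rw [← stalk_map_germ ι hηW (σ k)]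
    refine congrArg _ ?_
    exact (germ_res' G _ hηW (s k)).trans (hs k)
  have hsat : ∃ c ∈ P, ∃ k ∈ K, c • gM r = gM k := by
    have h2 : gM r ∈ Submodule.span (X.presheaf.stalk η) (gM '' (K : Set Γ(M, W))) := by
      show M.presheaf.germ W η hηW r ∈ _
      rw [e1]
      exact Submodule.smul_mem _ _ hspan
    have hloc : ∀ z ∈ Submodule.span (X.presheaf.stalk η) (gM '' (K : Set Γ(M, W))),
        ∃ c ∈ P, ∃ k ∈ K, c • z = gM k := by
      intro z hz
      induction hz using Submodule.span_induction with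
      | mem z hz => obtain ⟨k, hk, rfl⟩ := hz; exact ⟨1, P.one_mem, k, hk, one_smul _ _⟩
      | zero => exact ⟨1, P.one_mem, 0, K.zero_mem, by rw [smul_zero, map_zero]⟩
      | add z z' _ _ h h' =>
        obtain ⟨c, hc, k, hk, e⟩ := h
        obtain ⟨c', hc', k', hk', e'⟩ := h'
        refine ⟨c * c', P.mul_mem hc hc', c' • k + c • k', K.add_mem (K.smul_mem _ hk) (K.smul_mem _ hk'), ?_⟩
        rw [map_add, map_smul, map_smul, ← e, ← e', smul_add, smul_smul, smul_smul, mul_comm c' c]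
      | smul q z _ h =>
        obtain ⟨c, hc, k, hk, e⟩ := h
        obtain ⟨⟨b, d⟩, hbd⟩ := IsLocalization.surj P q
        refine ⟨c * d, P.mul_mem hc d.2, b • k, K.smul_mem _ hk, ?_⟩
        rw [map_smul, ← e, smul_comm b c, mul_smul, ← algebraMap_smul (X.presheaf.stalk η) (d : Γ(X, W)) (q • z),
          smul_smul, mul_comm, hbd, algebraMap_smul]
    exact hloc _ h2
  obtain ⟨c, hc, k, hk, hck⟩ := hsat
  rw [← map_smul] at hck
  obtain ⟨d, hd⟩ := IsLocalizedModule.exists_of_eq (S := P) (f := gM) hck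
  have hrK : r ∈ Ksat := ⟨d.1 * c, P.mul_mem d.2 hc, by
    rw [mul_smul, show d.1 • c • r = d.1 • k from hd]
    exact K.smul_mem _ hk⟩
  -- conclude at `y`
  have hu : IsUnit (X.presheaf.germ W y hyW w₀ * X.presheaf.germ W y hyW t) :=
    ((Scheme.mem_basicOpen _ _ _ hyW).1 hyV).mul ((Scheme.mem_basicOpen _ _ _ hyW).1 ht)
  let Sp := Submodule.span (X.presheaf.stalk y)
    (germSet G ((fun k => (⟨W, σ k⟩ : Σ U : X.Opens, (Γ(G, U) : Type u))) '' Set.univ) y)
  have hinjy : Function.Injective ((DerSch.stalkFunctor X y).map ι) :=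
    (ModuleCat.mono_iff_injective ((DerSch.stalkFunctor X y).map ι)).1 inferInstance
  have hmem : (X.presheaf.germ W y hyW w₀ * X.presheaf.germ W y hyW t) •
      M.presheaf.germ U₁ y hyU₁ (ι.app U₁ a) ∈ Sp.map ((DerSch.stalkFunctor X y).map ι).hom := by
    rw [mul_smul, hr, ← QCohLoc.germ_smul' M hyW]
    refine Submodule.span_induction ?_ ?_ ?_ ?_ (hw₀ r hrK)
    · rintro _ ⟨j, rfl⟩
      exact ⟨G.presheaf.germ W y hyW (σ j), Submodule.subset_span ⟨_, ⟨j, trivial, rfl⟩, hyW, rfl⟩,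
        stalk_map_germ ι hyW (σ j)⟩
    · rw [map_zero]; exact zero_mem _
    · intro p q _ _ hp hq; rw [map_add]; exact add_mem hp hq
    · intro q p _ hp; rw [QCohLoc.germ_smul' M hyW]; exact Submodule.smul_mem _ _ hp
  obtain ⟨z, hz, hze⟩ := hmem
  have e2 : z = (X.presheaf.germ W y hyW w₀ * X.presheaf.germ W y hyW t) • G.presheaf.germ U₁ y hyU₁ a :=
    hinjy (hze.trans (((DerSch.stalkFunctor X y).map ι).hom.map_smul _ _ |>.trans
      (congrArg _ (stalk_map_germ ι hyU₁ a))).symm)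
  subst e2
  exact (Submodule.smul_mem_iff_of_isUnit _ hu).1 hz

omit [IsLocallyNoetherian X] in
/-- Finitely many sections generate a submodule of a coherent module on a Noetherian scheme. -/
theorem exists_genAt_univ [IsNoetherian X] {G M : X.Modules} (hM : Coh.IsCoh M) (ι : G ⟶ M) [Mono ι] :
    GenAt G Set.univ := by
  have key : ∀ Z : TopologicalSpace.Closeds X, GenAt G (Z : Set X) := by
    intro Z
    induction Z using WellFoundedLT.induction with
    | _ Z ih =>
      rcases Set.eq_empty_or_nonempty (Z : Set X) with h | h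
      · exact ⟨∅, Set.finite_empty, fun y hy => absurd hy (by rw [h]; exact Set.notMem_empty y)⟩
      by_cases hirr : IsIrreducible (Z : Set X)
      · obtain ⟨η, hη⟩ : ∃ η, IsGenericPoint η (Z : Set X) := QuasiSober.sober hirr Z.isClosed
        obtain ⟨V, hηV, hV⟩ := exists_nhd_genAt hM ι η
        let Z' : TopologicalSpace.Closeds X := ⟨(Z : Set X) ∩ (V : Set X)ᶜ, Z.isClosed.inter V.isOpen.isClosed_compl⟩
        have hlt : Z' < Z := lt_of_le_of_ne (fun y hy => hy.1) fun e =>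
          ((SetLike.ext_iff.1 e η).2 hη.mem).2 hηV
        refine ((ih Z' hlt).union hV).mono fun y hy => ?_
        by_cases hyV : y ∈ V
        · exact Or.inr ⟨hyV, by rw [hη.def]; exact hy⟩
        · exact Or.inl ⟨hy, hyV⟩
      · rw [IsIrreducible, and_iff_right h, isPreirreducible_iff_isClosed_union_isClosed] at hirr
        push Not at hirr
        obtain ⟨A, B, hA, hB, hAB, hnA, hnB⟩ := hirr
        let A' : TopologicalSpace.Closeds X := ⟨(Z : Set X) ∩ A, Z.isClosed.inter hA⟩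
        let B' : TopologicalSpace.Closeds X := ⟨(Z : Set X) ∩ B, Z.isClosed.inter hB⟩
        have hlA : A' < Z := lt_of_le_of_ne (fun y hy => hy.1) fun e =>
          hnA fun y hy => ((SetLike.ext_iff.1 e y).2 hy).2
        have hlB : B' < Z := lt_of_le_of_ne (fun y hy => hy.1) fun e =>
          hnB fun y hy => ((SetLike.ext_iff.1 e y).2 hy).2
        refine ((ih A' hlA).union (ih B' hlB)).mono fun y hy => ?_
        exact (hAB hy).imp (fun h => ⟨hy, h⟩) fun h => ⟨hy, h⟩
  exact key ⊤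

end Groth.Agent.InjMod14
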